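import Groth.Agent.Lib.DepthAlong11.FibrePair

/-!
# Regular pairs on a localized module tensored with a module of the base
-/

universe u

open TensorProduct Pointwise

set_option autoImplicit false
set_option linter.style.haveILetI false

namespace Groth.Agent.DepthAlong11

/-- Reduction modulo an element commutes with localization. -/
theorem exists_isLocalizedModule_quotSMulTop {B B' M M' : Type u} [CommRing B] [CommRing B'] [Algebra B B']
    [AddCommGroup M] [Module B M] [AddCommGroup M'] [Module B M'] [Module B' M'] [IsScalarTower B B' M']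
    (S : Submonoid B) (ι : M →ₗ[B] M') [IsLocalizedModule S ι] (a : B) :
    ∃ ι' : QuotSMulTop a M →ₗ[B] QuotSMulTop (algebraMap B B' a) M', IsLocalizedModule S ι' := by
  let π : M' →ₗ[B] QuotSMulTop (algebraMap B B' a) M' :=
    (algebraMap B B' a • (⊤ : Submodule B' M')).mkQ.restrictScalars B
  have hπ : ∀ x : M', π x = 0 ↔ ∃ y, a • y = x := fun x => by
    simp only [π, LinearMap.restrictScalars_apply, Submodule.mkQ_apply, Submodule.Quotient.mk_eq_zero,
      Submodule.mem_smul_pointwise_iff_exists, algebraMap_smul, Submodule.mem_top, true_and]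
  refine ⟨Submodule.liftQ _ (π ∘ₗ ι) fun m hm => ?_, ⟨fun s => ?_, fun y => ?_, fun {x y} h => ?_⟩⟩
  · obtain ⟨m', -, rfl⟩ := (Submodule.mem_smul_pointwise_iff_exists m a ⊤).1 hm
    exact (hπ _).2 ⟨ι m', (map_smul ι a m').symm⟩
  · have hs := (Module.End.isUnit_iff _).1 (IsLocalizedModule.map_units ι s)
    rw [Module.End.isUnit_iff]
    refine ⟨fun p q hpq => ?_, fun p => ?_⟩
    · obtain ⟨p, rfl⟩ := Submodule.mkQ_surjective (algebraMap B B' a • (⊤ : Submodule B' M')) p
      obtain ⟨q, rfl⟩ := Submodule.mkQ_surjective (algebraMap B B' a • (⊤ : Submodule B' M')) q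
      change (s : B) • π p = (s : B) • π q at hpq
      show π p = π q
      rw [← map_smul, ← map_smul, ← sub_eq_zero, ← map_sub, hπ] at hpq
      obtain ⟨z, hz⟩ := hpq
      obtain ⟨z', rfl⟩ := hs.2 z
      rw [← sub_eq_zero, ← map_sub, hπ]
      refine ⟨z', hs.1 ?_⟩
      show (s : B) • a • z' = (s : B) • (p - q)
      rw [smul_comm, smul_sub, ← hz]
      rfl
    · obtain ⟨p, rfl⟩ := Submodule.mkQ_surjective (algebraMap B B' a • (⊤ : Submodule B' M')) p
      obtain ⟨p', hp'⟩ := hs.2 p
      refine ⟨π p', ?_⟩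
      show (s : B) • π p' = π p
      rw [← map_smul]
      exact congrArg π hp'
  · obtain ⟨y, rfl⟩ := Submodule.mkQ_surjective (algebraMap B B' a • (⊤ : Submodule B' M')) y
    obtain ⟨⟨m, s⟩, hm⟩ := IsLocalizedModule.surj S ι y
    refine ⟨⟨Submodule.Quotient.mk m, s⟩, ?_⟩
    show (s : B) • π y = π (ι m)
    rw [← map_smul]
    exact congrArg π hm
  · obtain ⟨x, rfl⟩ := Submodule.mkQ_surjective (a • (⊤ : Submodule B M)) x
    obtain ⟨y, rfl⟩ := Submodule.mkQ_surjective (a • (⊤ : Submodule B M)) y
    change π (ι x) = π (ι y) at h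
    rw [← sub_eq_zero, ← map_sub, ← map_sub, hπ] at h
    obtain ⟨z, hz⟩ := h
    obtain ⟨⟨m, s⟩, hm⟩ := IsLocalizedModule.surj S ι z
    obtain ⟨t, ht⟩ := IsLocalizedModule.exists_of_eq (S := S) (f := ι) (x₁ := (s : B) • (x - y)) (x₂ := a • m) (by
      rw [map_smul, map_smul, ← hz, smul_comm]
      exact congrArg (a • ·) hm)
    refine ⟨t * s, ?_⟩
    show ((t * s : S) : B) • (Submodule.Quotient.mk x : QuotSMulTop a M) = ((t * s : S) : B) • Submodule.Quotient.mk y
    rw [← Submodule.Quotient.mk_smul, ← Submodule.Quotient.mk_smul, Submodule.Quotient.eq,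
      Submodule.mem_smul_pointwise_iff_exists]
    refine ⟨(t : B) • m, trivial, ?_⟩
    rw [Submonoid.coe_mul, ← smul_sub, mul_smul, smul_comm a (t : B) m]
    exact ht.symm

variable {A B R S M M' : Type u} [CommRing A] [CommRing B] [CommRing R] [CommRing S]
  [Algebra A B] [Algebra A R] [Algebra A S] [Algebra R S] [Algebra B S]
  [AddCommGroup M] [Module B M] [Module A M] [IsScalarTower A B M]
  [AddCommGroup M'] [Module A M'] [Module B M'] [Module R M'] [Module S M']
  [IsScalarTower A B M'] [IsScalarTower B S M'] [IsScalarTower R S M'] [IsScalarTower A R M'] [IsScalarTower A S M']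
  (p : Ideal B) [p.IsPrime] (T : Submonoid A) [IsLocalization T R]
  (ι : M →ₗ[B] M') [IsLocalizedModule p.primeCompl ι] (G : Type u) [AddCommGroup G] [Module R G]

include ι in
theorem isSMulRegular_tensor_of_localized {a : B} (ha : IsSMulRegular (LocalizedModule p.primeCompl M) a) :
    IsSMulRegular M' (algebraMap B S a) := by
  have h : IsSMulRegular M' a := ((IsLocalizedModule.iso p.primeCompl ι).isSMulRegular_congr a).1 ha
  exact fun x y hxy => h (by simpa only [algebraMap_smul] using hxy)

include T in
omit [Module R G] [AddCommGroup G] in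
theorem flat_quot_of_localized {Q Q' : Type u} [AddCommGroup Q] [Module B Q] [Module A Q] [IsScalarTower A B Q]
    [AddCommGroup Q'] [Module A Q'] [Module B Q'] [Module R Q'] [IsScalarTower A B Q'] [IsScalarTower A R Q']
    (ι : Q →ₗ[B] Q') [IsLocalizedModule p.primeCompl ι] (h : Module.Flat A (LocalizedModule p.primeCompl Q)) :
    Module.Flat R Q' := by
  rw [Module.flat_iff_of_isLocalization R T Q']
  exact Module.Flat.of_linearEquiv ((IsLocalizedModule.iso p.primeCompl ι).restrictScalars A).symm

include ι T in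
/-- A regular element of the localized module with flat quotient is regular on the tensor product. -/
theorem regular_tensor {a : B} (ha : IsSMulRegular (LocalizedModule p.primeCompl M) a)
    (hfa : Module.Flat A (LocalizedModule p.primeCompl (QuotSMulTop a M))) :
    IsSMulRegular (M' ⊗[R] G) (algebraMap B S a) := by
  obtain ⟨ι₁, hι₁⟩ := exists_isLocalizedModule_quotSMulTop (B' := S) p.primeCompl ι a
  haveI : Module.Flat R (QuotSMulTop (algebraMap B S a) M') := flat_quot_of_localized p T ι₁ hfa
  exact (regular_tensor_pair G _ (isSMulRegular_tensor_of_localized p ι ha)).1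

include ι T in
/-- A regular pair of the localized module with flat quotients is regular on the tensor product. -/
theorem regularPair_tensor {a b : B} (ha : IsSMulRegular (LocalizedModule p.primeCompl M) a)
    (hfa : Module.Flat A (LocalizedModule p.primeCompl (QuotSMulTop a M)))
    (hb : IsSMulRegular (LocalizedModule p.primeCompl (QuotSMulTop a M)) b)
    (hfb : Module.Flat A (LocalizedModule p.primeCompl (QuotSMulTop b (QuotSMulTop a M))))
    (x y : M' ⊗[R] G) (h : algebraMap B S b • x = algebraMap B S a • y) :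
    ∃ z : M' ⊗[R] G, x = algebraMap B S a • z := by
  obtain ⟨ι₁, hι₁⟩ := exists_isLocalizedModule_quotSMulTop (B' := S) p.primeCompl ι a
  obtain ⟨ι₂, hι₂⟩ := exists_isLocalizedModule_quotSMulTop (B' := S) p.primeCompl ι₁ b
  haveI : Module.Flat R (QuotSMulTop (algebraMap B S a) M') := flat_quot_of_localized p T ι₁ hfa
  haveI : Module.Flat R (QuotSMulTop (algebraMap B S b) (QuotSMulTop (algebraMap B S a) M')) :=
    flat_quot_of_localized p T ι₂ hfb
  obtain ⟨-, ⟨e⟩⟩ := regular_tensor_pair (R := R) G _ (isSMulRegular_tensor_of_localized (S := S) p ι ha)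
  have hreg := (e.isSMulRegular_congr (algebraMap B S b)).1
    (regular_tensor_pair (R := R) G _ (isSMulRegular_tensor_of_localized (S := S) p ι₁ hb)).1
  have hmem : (Submodule.Quotient.mk x : QuotSMulTop (algebraMap B S a) (M' ⊗[R] G)) = 0 := by
    refine hreg.right_eq_zero_of_smul ?_
    rw [← Submodule.Quotient.mk_smul, h, Submodule.Quotient.mk_eq_zero]
    exact Submodule.smul_mem_pointwise_smul _ _ _ trivial
  obtain ⟨z, -, hz⟩ := (Submodule.mem_smul_pointwise_iff_exists _ _ _).1
    ((Submodule.Quotient.mk_eq_zero _).1 hmem)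
  exact ⟨z, hz.symm⟩

end Groth.Agent.DepthAlong11
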