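import Groth.Agent.Lib.DepthAlong11.Ring
import Groth.Agent.Lib.LocCohZ.DepthVanish
import Groth.Agent.Lib.DivDesc12.Stalk
import Groth.Agent.Lib.ModM1.Coh
import Groth.Prelude.Def_CInt

/-!
# Openness of depth along a closed subset
-/

set_option autoImplicit false
set_option linter.style.haveILetI false
set_option backward.isDefEq.respectTransparency false

universe u

open CategoryTheory AlgebraicGeometry TopologicalSpace

namespace Groth.Agent.DepthAlong11

variable {X : Scheme.{u}} (F : X.Modules) [Coh.IsQCoh F]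

theorem depth_stalk_fromSpec {U : X.Opens} (hU : IsAffineOpen U) (p : PrimeSpectrum Γ(X, U)) :
    LocCoh.depth (X.presheaf.stalk (hU.fromSpec p)) (F.presheaf.stalk (hU.fromSpec p)) =
      LocCoh.depth (Localization.AtPrime p.asIdeal) (LocalizedModule p.asIdeal.primeCompl Γ(F, U)) := by
  have hz : hU.fromSpec p ∈ U := hU.range_fromSpec.le ⟨p, rfl⟩
  have key : ∀ q : PrimeSpectrum Γ(X, U), q = hU.primeIdealOf ⟨_, hz⟩ →
      LocCoh.depth (X.presheaf.stalk (hU.fromSpec p)) (F.presheaf.stalk (hU.fromSpec p)) =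
        LocCoh.depth (Localization.AtPrime q.asIdeal) (LocalizedModule q.asIdeal.primeCompl Γ(F, U)) := by
    rintro q rfl
    exact LocCohZQ.depth_stalk_eq F hU hz
  exact key p (hU.fromSpec.isOpenEmbedding.injective (hU.fromSpec_primeIdealOf ⟨_, hz⟩)).symm

/-- The depth along `Y` in terms of an affine chart. -/
theorem natCast_le_depthAlong_iff {U : X.Opens} (hU : IsAffineOpen U) {y : X} (hy : y ∈ U) (Y : Set X) (n : ℕ) :
    (n : ℕ∞) ≤ CInt.depthAlong F Y y ↔ ∀ p : PrimeSpectrum Γ(X, U), hU.fromSpec p ∈ Y →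
      p.asIdeal ≤ (hU.primeIdealOf ⟨y, hy⟩).asIdeal →
      (n : ℕ∞) ≤ LocCoh.depth (Localization.AtPrime p.asIdeal) (LocalizedModule p.asIdeal.primeCompl Γ(F, U)) := by
  have hp : ∀ (p : PrimeSpectrum Γ(X, U)) (h : hU.fromSpec p ∈ U), hU.primeIdealOf ⟨_, h⟩ = p := fun p h =>
    hU.fromSpec.isOpenEmbedding.injective (hU.fromSpec_primeIdealOf ⟨_, h⟩)
  rw [CInt.depthAlong, le_iInf_iff]
  constructor
  · intro h p hpY hple
    have hz : hU.fromSpec p ∈ U := hU.range_fromSpec.le ⟨p, rfl⟩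
    rw [← depth_stalk_fromSpec F hU p]
    refine h ⟨_, hpY, (DivDesc12.specializes_iff hU hz hy).2 ?_⟩
    rw [hp p hz]
    exact hple
  · rintro h ⟨z, hzY, hzy⟩
    have hz : z ∈ U := hzy.mem_open U.2 hy
    have he := hU.fromSpec_primeIdealOf ⟨z, hz⟩
    have h1 := h (hU.primeIdealOf ⟨z, hz⟩) (by rw [he]; exact hzY) ((DivDesc12.specializes_iff hU hz hy).1 hzy)
    rw [← depth_stalk_fromSpec F hU, he] at h1
    exact h1

/-- The locus where the depth along a closed set is at least `n` is open in that set. -/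
theorem exists_open_depthAlong_ge [IsLocallyNoetherian X] (hF : Coh.IsCoh F) (Y : Closeds X) (n : ℕ) :
    ∃ U : X.Opens, ∀ y : X, y ∈ Y → (y ∈ U ↔ (n : ℕ∞) ≤ CInt.depthAlong F (Y : Set X) y) := by
  refine ⟨sSup {V : X.Opens | ∀ z ∈ V, z ∈ Y →
    (n : ℕ∞) ≤ LocCoh.depth (X.presheaf.stalk z) (F.presheaf.stalk z)}, fun y hyY => ⟨fun hy => ?_, fun h => ?_⟩⟩
  · obtain ⟨V, hV, hyV⟩ := TopologicalSpace.Opens.mem_sSup.1 hy
    exact le_iInf fun z => hV z.1 (z.2.2.mem_open V.2 hyV) z.2.1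
  · obtain ⟨U, hU, hyU, -⟩ := exists_isAffineOpen_mem_and_subset (x := y) (U := (⊤ : X.Opens)) trivial
    haveI : IsNoetherianRing Γ(X, U) := IsLocallyNoetherian.component_noetherian ⟨U, hU⟩
    haveI : Module.Finite Γ(X, U) Γ(F, U) := M1.finite_sections hF.1 hF.2 hU
    have hc : IsClosed (hU.fromSpec ⁻¹' (Y : Set X)) := Y.2.preimage hU.fromSpec.continuous
    obtain ⟨J, hJ⟩ := (PrimeSpectrum.isClosed_iff_zeroLocus_ideal _).1 hc
    have hJY : ∀ p : PrimeSpectrum Γ(X, U), J ≤ p.asIdeal ↔ hU.fromSpec p ∈ Y := fun p =>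
      (Set.ext_iff.1 hJ p).symm
    have hq : hU.fromSpec (hU.primeIdealOf ⟨y, hyU⟩) ∈ Y := by rw [hU.fromSpec_primeIdealOf]; exact hyY
    obtain ⟨g, hg, hgd⟩ := exists_notMem_forall_le_depth J (hU.primeIdealOf ⟨y, hyU⟩).asIdeal
      ((hJY _).2 hq) n Γ(F, U) fun p hp hpq =>
        (natCast_le_depthAlong_iff F hU hyU _ n).1 h p ((hJY p).1 hp) hpq
    refine TopologicalSpace.Opens.mem_sSup.2 ⟨X.basicOpen g, fun z hz hzY => ?_, ?_⟩
    · have hzU : z ∈ U := X.basicOpen_le g hz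
      have he := hU.fromSpec_primeIdealOf ⟨z, hzU⟩
      have h1 := hgd (hU.primeIdealOf ⟨z, hzU⟩) ((hJY _).2 (by rw [he]; exact hzY))
        ((M1.isUnit_germ_iff hU hzU g).1 ((X.mem_basicOpen g z hzU).1 hz))
      rw [← depth_stalk_fromSpec F hU, he] at h1
      exact h1
    · exact (X.mem_basicOpen g y hyU).2 ((M1.isUnit_germ_iff hU hyU g).2 hg)

end Groth.Agent.DepthAlong11
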