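import Groth.Agent.Lib.DepthAlong11.Extend
import Groth.Agent.Lib.DepthAlong11.Scheme
import Groth.Agent.Lib.DepthAlong11.PairLoc
import Groth.Agent.Lib.RefHull26.HomExt

/-!
# Depth at least two off an open set gives extension of sections
-/

universe u

open CategoryTheory AlgebraicGeometry TopologicalSpace Pointwise

set_option autoImplicit false
set_option linter.style.haveILetI false
set_option backward.isDefEq.respectTransparency false

namespace Groth.Agent.DepthAlong11

/-- An element of an ideal outside all associated primes, if depth is positive on the ideal's zero set. -/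
theorem exists_mem_forall_isSMulRegular {A : Type u} [CommRing A] [IsNoetherianRing A] (M : Type u)
    [AddCommGroup M] [Module A M] [Module.Finite A M] (J : Ideal A)
    (h : ∀ p : PrimeSpectrum A, J ≤ p.asIdeal →
      (1 : ℕ∞) ≤ LocCoh.depth (Localization.AtPrime p.asIdeal) (LocalizedModule p.asIdeal.primeCompl M)) :
    ∃ a ∈ J, ∀ p : PrimeSpectrum A, IsSMulRegular (LocalizedModule p.asIdeal.primeCompl M) a := by
  classical
  have hfin := associatedPrimes.finite A M
  have hns : ¬ (J : Set A) ⊆ ⋃ P ∈ (hfin.toFinset : Set (Ideal A)), (P : Set A) := by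
    intro hsub
    simp only [Finset.mem_coe] at hsub
    obtain ⟨P, hP, hle⟩ := (Ideal.subset_union_prime (f := id) (⊥ : Ideal A) ⊥
      (fun P hP _ _ => IsAssociatedPrime.isPrime (hfin.mem_toFinset.1 hP))).1 hsub
    haveI : P.IsPrime := IsAssociatedPrime.isPrime (hfin.mem_toFinset.1 hP)
    exact not_one_le_depth_of_mem_associatedPrimes P (hfin.mem_toFinset.1 hP) (h ⟨P, inferInstance⟩ hle)
  obtain ⟨a, haJ, hax⟩ := Set.not_subset.1 hns
  exact ⟨a, haJ, fun p => isSMulRegular_localized p.asIdeal fun P hP _ haP =>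
    hax (Set.mem_biUnion (hfin.mem_toFinset.2 hP) haP)⟩

variable {X : Scheme.{u}}

/-- Coherent with depth at least two outside `W`: a regular pair exists near each point there. -/
theorem hasSlicePair_of_depth [IsLocallyNoetherian X] (H : X.Modules) [Coh.IsQCoh H] (hH : Coh.IsCoh H)
    (W : X.Opens)
    (h : ∀ z : X, z ∉ W → (2 : ℕ∞) ≤ LocCoh.depth (X.presheaf.stalk z) (H.presheaf.stalk z)) :
    HasSlicePair H W := by
  intro z hz
  obtain ⟨U, hU, hzU, -⟩ := exists_isAffineOpen_mem_and_subset (x := z) (U := (⊤ : X.Opens)) trivial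
  haveI : IsNoetherianRing Γ(X, U) := IsLocallyNoetherian.component_noetherian ⟨U, hU⟩
  haveI : Module.Finite Γ(X, U) Γ(H, U) := M1.finite_sections hH.1 hH.2 hU
  have hc : IsClosed (hU.fromSpec ⁻¹' ((W : Set X)ᶜ)) := W.2.isClosed_compl.preimage hU.fromSpec.continuous
  obtain ⟨J, hJ⟩ := (PrimeSpectrum.isClosed_iff_zeroLocus_ideal _).1 hc
  have hJY : ∀ p : PrimeSpectrum Γ(X, U), J ≤ p.asIdeal ↔ hU.fromSpec p ∉ W := fun p =>
    (Set.ext_iff.1 hJ p).symm
  have hd : ∀ p : PrimeSpectrum Γ(X, U), J ≤ p.asIdeal →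
      (2 : ℕ∞) ≤ LocCoh.depth (Localization.AtPrime p.asIdeal) (LocalizedModule p.asIdeal.primeCompl Γ(H, U)) :=
    fun p hp => by rw [← depth_stalk_fromSpec H hU p]; exact h _ ((hJY p).1 hp)
  obtain ⟨a, haJ, ha⟩ := exists_mem_forall_isSMulRegular Γ(H, U) J fun p hp => le_trans (by norm_num) (hd p hp)
  obtain ⟨b, hbJ, hb⟩ := exists_mem_forall_isSMulRegular (QuotSMulTop a Γ(H, U)) J fun p hp => by
    have h2 := hd p hp
    rw [← depth_localized_quotSMulTop p.asIdeal (hp haJ) (ha p), ← one_add_one_eq_two] at h2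
    exact (ENat.add_le_add_iff_right ENat.one_ne_top).1 h2
  have hW : ∀ c ∈ J, X.basicOpen c ≤ W := fun c hc w hw => by
    by_contra hwW
    have hwU : w ∈ U := X.basicOpen_le c hw
    exact (M1.isUnit_germ_iff hU hwU c).1 ((X.mem_basicOpen c w hwU).1 hw)
      ((hJY _).2 (by rw [hU.fromSpec_primeIdealOf]; exact hwW) hc)
  refine ⟨U, hU, hzU, a, b, hW a haJ, hW b hbJ, fun w hw => ?_, fun w hw x y hxy => ?_⟩
  · letI := M1.stalkModule H hw
    haveI := M1.isLocalizedModule_germ H hU hw
    have h1 := ((IsLocalizedModule.iso _ (M1.germₗ H hw)).isSMulRegular_congr a).1 (ha (hU.primeIdealOf ⟨w, hw⟩))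
    exact fun x y hxy => h1 hxy
  · letI := M1.stalkModule H hw
    haveI := M1.isLocalizedModule_germ H hU hw
    let p := (hU.primeIdealOf ⟨w, hw⟩).asIdeal
    let e := IsLocalizedModule.iso p.primeCompl (M1.germₗ H hw)
    obtain ⟨ι, hι⟩ := exists_isLocalizedModule_quotSMulTop (B' := Γ(X, U)) p.primeCompl (M1.germₗ H hw) a
    have h1 := ((IsLocalizedModule.iso _ ι).isSMulRegular_congr b).1 (hb (hU.primeIdealOf ⟨w, hw⟩))
    have h2 : b • (Submodule.Quotient.mk x : QuotSMulTop a (H.presheaf.stalk w)) = 0 := by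
      rw [← Submodule.Quotient.mk_smul, Submodule.Quotient.mk_eq_zero]
      exact (Submodule.mem_smul_pointwise_iff_exists _ _ _).2 ⟨y, trivial, hxy.symm⟩
    obtain ⟨v, -, hv⟩ := (Submodule.mem_smul_pointwise_iff_exists _ _ _).1
      ((Submodule.Quotient.mk_eq_zero _).1 (h1.right_eq_zero_of_smul h2))
    exact ⟨v, hv.symm⟩

/-- The extension property from a regular pair. -/
theorem extU_of_hasSlicePair (H : X.Modules) [Coh.IsQCoh H] {W : X.Opens} (h : HasSlicePair H W) :
    RH26.ExtU W H := fun O => mres_bijective_of_hasSlicePair h (inf_le_left : O ⊓ W ≤ O) (inf_comm W O).le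

end Groth.Agent.DepthAlong11
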