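import Groth.Agent.Lib.ModM1.Stalk
import Groth.Agent.Lib.AffHom12.Open

/-!
# Extension of sections of a quasi-coherent module across a closed subset

If near every point outside an open `W` there is a function `a`, invertible only inside `W`, that is
regular on the module, then sections are determined on `W`; with a second function regular modulo
the first, sections extend from `W`.
-/

universe u

open CategoryTheory Limits AlgebraicGeometry Opposite TopologicalSpace

set_option autoImplicit false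
set_option backward.isDefEq.respectTransparency false
set_option linter.style.haveILetI false

namespace Groth.Agent.DepthAlong11

open M1

variable {X : Scheme.{u}} (H : X.Modules)

/-- A function on an open that acts injectively on every stalk there. -/
def RegOn {N : X.Opens} (a : Γ(X, N)) : Prop :=
  ∀ (w : X) (hw : w ∈ N), IsSMulRegular (H.presheaf.stalk w) (X.presheaf.germ N w hw a)

/-- A function that acts injectively on every stalk modulo another one. -/
def RegModOn {N : X.Opens} (a b : Γ(X, N)) : Prop :=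
  ∀ (w : X) (hw : w ∈ N) (x y : H.presheaf.stalk w),
    X.presheaf.germ N w hw b • x = X.presheaf.germ N w hw a • y →
      ∃ z : H.presheaf.stalk w, x = X.presheaf.germ N w hw a • z

variable {H}

theorem RegOn.ores {N N' : X.Opens} {a : Γ(X, N)} (ha : RegOn H a) (h : N' ≤ N) :
    RegOn H (ores h a) := fun w hw => by
  rw [TopCat.Presheaf.germ_res_apply]; exact ha w (h hw)

theorem RegModOn.ores {N N' : X.Opens} {a b : Γ(X, N)} (hb : RegModOn H a b) (h : N' ≤ N) :
    RegModOn H (ores h a) (ores h b) := fun w hw => by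
  rw [TopCat.Presheaf.germ_res_apply, TopCat.Presheaf.germ_res_apply]; exact hb w (h hw)

theorem RegOn.pow {N : X.Opens} {a : Γ(X, N)} (ha : RegOn H a) (k : ℕ) : RegOn H (a ^ k) :=
  fun w hw => by rw [map_pow]; exact (ha w hw).pow k

theorem RegModOn.pow {N : X.Opens} {a b : Γ(X, N)} (hb : RegModOn H a b) (ha : RegOn H a) (k l : ℕ) :
    RegModOn H (a ^ k) (b ^ l) := by
  intro w hw
  rw [map_pow, map_pow]
  have ha := ha w hw
  have hb := hb w hw
  generalize X.presheaf.germ N w hw a = α at ha hb ⊢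
  generalize X.presheaf.germ N w hw b = β at hb ⊢
  have h1 : ∀ (k : ℕ) (x y : H.presheaf.stalk w), β • x = α ^ k • y → ∃ z, x = α ^ k • z := by
    intro k
    induction k with
    | zero => exact fun x y _ => ⟨x, by rw [pow_zero, one_smul]⟩
    | succ k ih =>
      intro x y h
      obtain ⟨z, rfl⟩ := hb x (α ^ k • y) (by rw [h, pow_succ', mul_smul])
      obtain ⟨z', rfl⟩ := ih z y (ha (by
        show α • (β • z) = α • (α ^ k • y)
        rw [← mul_smul α (α ^ k), ← pow_succ', ← h, smul_comm]))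
      exact ⟨z', by rw [← mul_smul, ← pow_succ']⟩
  induction l with
  | zero => exact fun x y h => ⟨y, by rwa [pow_zero, one_smul] at h⟩
  | succ l ih =>
    intro x y h
    obtain ⟨z, hz⟩ := h1 k (β ^ l • x) y (by rw [← mul_smul, ← pow_succ', h])
    exact ih x z hz

variable [Coh.IsQCoh H]

/-- A section vanishing where a regular function is invertible vanishes. -/
theorem eq_zero_of_regOn {N : X.Opens} {a : Γ(X, N)} (ha : RegOn H a) {O : X.Opens} (δ : Γ(H, O))
    (hO : O ≤ N) {W : X.Opens} (hW : X.basicOpen a ≤ W) (hWO : W ⊓ O ≤ O := inf_le_right)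
    (hδ : mres H hWO δ = 0) : δ = 0 := by
  refine TopCat.Presheaf.section_ext ⟨H.presheaf, H.isSheaf⟩ O δ 0 fun w hw => ?_
  obtain ⟨N', hN', hwN', hN'O⟩ := exists_isAffineOpen_mem_and_subset (x := w) (U := O) hw
  have hN'le : N' ≤ N := fun v hv => hO (hN'O hv)
  have hb : X.basicOpen (M1.ores hN'le a) ≤ W ⊓ O := by
    refine le_inf ?_ ((X.basicOpen_le _).trans fun v hv => hN'O hv)
    rw [X.basicOpen_res a (homOfLE hN'le).op]
    exact inf_le_right.trans hW
  obtain ⟨n, hn⟩ := exists_pow_smul_eq_zero_affine H hN' (M1.ores hN'le a)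
    (mres H (fun v hv => hN'O hv) δ) (by rw [mres_mres, ← mres_mres H hWO hb, hδ, map_zero])
  have h2 := congrArg (H.presheaf.germ N' w hwN') hn
  rw [map_zero, germ_smul, map_pow, germ_mres] at h2
  show H.presheaf.germ O w hw δ = H.presheaf.germ O w hw 0
  rw [map_zero]
  exact ((ha.ores hN'le w hwN').pow n).right_eq_zero_of_smul h2

variable (H) in
/-- Near each point outside `W`, some function invertible only in `W` is regular on `H`. -/
def HasSlice (W : X.Opens) : Prop :=
  ∀ z : X, z ∉ W → ∃ V : X.Opens, IsAffineOpen V ∧ z ∈ V ∧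
    ∃ a : Γ(X, V), X.basicOpen a ≤ W ∧ RegOn H a

variable (H) in
/-- Near each point outside `W`, two functions invertible only in `W` form a regular pair on `H`. -/
def HasSlicePair (W : X.Opens) : Prop :=
  ∀ z : X, z ∉ W → ∃ V : X.Opens, IsAffineOpen V ∧ z ∈ V ∧
    ∃ a b : Γ(X, V), X.basicOpen a ≤ W ∧ X.basicOpen b ≤ W ∧ RegOn H a ∧ RegModOn H a b

variable {W : X.Opens}

theorem HasSlicePair.hasSlice (h : HasSlicePair H W) : HasSlice H W := fun z hz =>
  let ⟨V, hV, hzV, a, _, ha, _, hr, _⟩ := h z hz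
  ⟨V, hV, hzV, a, ha, hr⟩

theorem mres_injective_of_hasSlice (h : HasSlice H W) {U U' : X.Opens} (hle : U' ≤ U)
    (he : W ⊓ U ≤ U') : Function.Injective (mres H hle) := by
  refine (injective_iff_map_eq_zero _).2 fun s hs => ?_
  refine TopCat.Presheaf.section_ext ⟨H.presheaf, H.isSheaf⟩ U s 0 fun z hz => ?_
  show H.presheaf.germ U z hz s = H.presheaf.germ U z hz 0
  rw [map_zero]
  by_cases hzW : z ∈ W
  · rw [← germ_mres H hle (he ⟨hzW, hz⟩), hs, map_zero]
  obtain ⟨V, -, hzV, a, haW, ha⟩ := h z hzW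
  have h0 : mres H (inf_le_left : U ⊓ V ≤ U) s = 0 := by
    refine eq_zero_of_regOn ha _ inf_le_right haW inf_le_right ?_
    have h1 : W ⊓ (U ⊓ V) ≤ U' := (inf_le_inf_left W inf_le_left).trans he
    rw [mres_mres, ← mres_mres H hle h1, hs, map_zero]
  rw [← germ_mres H (inf_le_left : U ⊓ V ≤ U) ⟨hz, hzV⟩, h0, map_zero]

/-- A section divisible at every point of an affine open is divisible. -/
theorem exists_smul_eq_of_forall_stalk {N : X.Opens} (hN : IsAffineOpen N) (a : Γ(X, N)) (m : Γ(H, N))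
    (hm : ∀ (w : X) (hw : w ∈ N), ∃ x : H.presheaf.stalk w,
      H.presheaf.germ N w hw m = X.presheaf.germ N w hw a • x) : ∃ s, a • s = m := by
  let I : Ideal Γ(X, N) := (LinearMap.range (LinearMap.lsmul Γ(X, N) Γ(H, N) a)).colon {m}
  have hI : I = ⊤ := by
    by_contra hne
    obtain ⟨p, hp, hIp⟩ := Ideal.exists_le_maximal I hne
    obtain ⟨w, hw, hwp⟩ : ∃ (w : X) (hw : w ∈ N), (hN.primeIdealOf ⟨w, hw⟩).asIdeal = p := by
      let q : PrimeSpectrum Γ(X, N) := ⟨p, inferInstance⟩
      have hq : hN.fromSpec q ∈ N := hN.range_fromSpec.le ⟨q, rfl⟩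
      exact ⟨_, hq, congr($(hN.fromSpec.isOpenEmbedding.injective (hN.fromSpec_primeIdealOf ⟨_, hq⟩)).1)⟩
    obtain ⟨x, hx⟩ := hm w hw
    obtain ⟨r, y, hr, hy⟩ := exists_germ_smul_eq H hN hw x
    obtain ⟨r', hr', h0⟩ := exists_smul_eq_zero_of_germ_eq_zero H hN hw (r • m - a • y) (by
      rw [map_sub, germ_smul, germ_smul, hx, ← hy, smul_comm, sub_self])
    have hmem : r' * r ∈ I := Submodule.mem_colon_singleton.2 ⟨r' • y, by
      rw [LinearMap.lsmul_apply, mul_smul]
      rw [smul_sub, sub_eq_zero] at h0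
      rw [h0, smul_comm]⟩
    have hu : IsUnit (X.presheaf.germ N w hw (r' * r)) := by rw [map_mul]; exact hr'.mul hr
    exact (isUnit_germ_iff hN hw _).1 hu (hwp.symm ▸ hIp hmem)
  obtain ⟨s, hs⟩ := Submodule.mem_colon_singleton.1 ((Ideal.eq_top_iff_one I).1 hI)
  exact ⟨s, hs.trans (one_smul _ m)⟩

/-- Extension on an affine open with a regular pair. -/
theorem exists_mres_eq_of_regPair {N : X.Opens} (hN : IsAffineOpen N) (a b : Γ(X, N)) (ha : RegOn H a)
    (hb : RegModOn H a b) {V : X.Opens} (hV : V ≤ N) (haV : X.basicOpen a ≤ V) (hbV : X.basicOpen b ≤ V)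
    (t : Γ(H, V)) : ∃ s : Γ(H, N), mres H hV s = t := by
  obtain ⟨k, m, hm⟩ := exists_pow_smul_eq_res_affine H hN a (mres H haV t)
  obtain ⟨l, n, hn⟩ := exists_pow_smul_eq_res_affine H hN b (mres H hbV t)
  have hab1 : X.basicOpen (a * b) ≤ X.basicOpen a := (X.basicOpen_mul a b).le.trans inf_le_left
  have hab2 : X.basicOpen (a * b) ≤ X.basicOpen b := (X.basicOpen_mul a b).le.trans inf_le_right
  obtain ⟨r, hr⟩ := exists_pow_smul_eq_zero_affine H hN (a * b) (b ^ l • m - a ^ k • n) (by
    rw [map_sub, mres_smul, mres_smul, ← mres_mres H (X.basicOpen_le a) hab1 m,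
      ← mres_mres H (X.basicOpen_le b) hab2 n, hm, hn, mres_smul, mres_smul, mres_mres, mres_mres,
      map_pow, map_pow, map_pow, map_pow, ores_ores, ores_ores, smul_comm, sub_self])
  have h1 : b ^ r • (b ^ l • m - a ^ k • n) = 0 := by
    refine TopCat.Presheaf.section_ext ⟨H.presheaf, H.isSheaf⟩ N _ 0 fun w hw => ?_
    show H.presheaf.germ N w hw _ = H.presheaf.germ N w hw 0
    rw [map_zero, germ_smul]
    refine ((ha.pow r) w hw).right_eq_zero_of_smul ?_
    rw [← germ_smul, ← germ_smul, ← mul_smul, ← mul_pow, hr, map_zero]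
  rw [smul_sub, sub_eq_zero, ← mul_smul, ← pow_add, smul_comm] at h1
  obtain ⟨s, hs⟩ := exists_smul_eq_of_forall_stalk hN (a ^ k) m fun w hw => by
    refine hb.pow ha k (r + l) w hw _ (H.presheaf.germ N w hw (b ^ r • n)) ?_
    rw [← germ_smul, ← germ_smul, h1]
  refine ⟨s, sub_eq_zero.1 (eq_zero_of_regOn ha _ hV le_rfl inf_le_right ?_)⟩
  have e : X.basicOpen a ⊓ V ≤ X.basicOpen a := inf_le_left
  refine sub_eq_zero.1 ?_
  refine TopCat.Presheaf.section_ext ⟨H.presheaf, H.isSheaf⟩ _ _ 0 fun w hw => ?_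
  show H.presheaf.germ _ w hw _ = H.presheaf.germ _ w hw 0
  rw [map_zero]
  refine ((ha.pow k) w (hV hw.2)).right_eq_zero_of_smul ?_
  have h2 := congrArg (H.presheaf.germ _ w hw.1) hm
  rw [← hs, mres_smul, germ_smul, germ_smul, germ_mres, germ_mres] at h2
  simp only [map_pow, TopCat.Presheaf.germ_res_apply] at h2
  simp only [map_sub, map_zero, sub_zero, map_pow]
  rw [germ_mres, germ_mres, germ_mres, smul_sub, h2, sub_self]

theorem mres_bijective_of_hasSlicePair (h : HasSlicePair H W) {U V : X.Opens} (hle : V ≤ U)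
    (he : W ⊓ U ≤ V) : Function.Bijective (mres H hle) := by
  refine ⟨mres_injective_of_hasSlice h.hasSlice hle he, fun t => ?_⟩
  have key : ∀ z : U, ∃ (N : X.Opens) (_ : N ≤ U), (z : X) ∈ N ∧
      ∃ s : Γ(H, N), mres H (inf_le_left : N ⊓ V ≤ N) s = mres H (inf_le_right : N ⊓ V ≤ V) t := by
    rintro ⟨z, hz⟩
    by_cases hzW : z ∈ W
    · exact ⟨V, hle, he ⟨hzW, hz⟩, t, rfl⟩
    obtain ⟨V₀, hV₀, hzV₀, a, b, haW, hbW, ha, hb⟩ := h z hzW
    obtain ⟨N, hN, hzN, hN'⟩ := exists_isAffineOpen_mem_and_subset (x := z) (U := U ⊓ V₀) ⟨hz, hzV₀⟩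
    have hNU : N ≤ U := fun v hv => (hN' hv).1
    have hNV : N ≤ V₀ := fun v hv => (hN' hv).2
    have hsub : ∀ c : Γ(X, V₀), X.basicOpen c ≤ W → X.basicOpen (M1.ores hNV c) ≤ N ⊓ V := fun c hc => by
      rw [X.basicOpen_res c (homOfLE hNV).op]
      exact le_inf inf_le_left (le_trans (le_inf (inf_le_right.trans hc) (inf_le_left.trans hNU)) he)
    obtain ⟨s, hs⟩ := exists_mres_eq_of_regPair hN _ _ (ha.ores hNV) (hb.ores hNV) inf_le_left
      (hsub a haW) (hsub b hbW) (mres H inf_le_right t)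
    exact ⟨N, hNU, hzN, s, hs⟩
  choose N hNU hzN s hs using key
  have hcov : U ≤ ⨆ z, N z := fun z hz => Opens.mem_iSup.2 ⟨⟨z, hz⟩, hzN _⟩
  obtain ⟨σ, hσ, -⟩ := TopCat.Sheaf.existsUnique_gluing' ⟨H.presheaf, H.isSheaf⟩ N U
    (fun z => homOfLE (hNU z)) hcov s fun i j => by
      have hle' : N i ⊓ N j ⊓ V ≤ N i ⊓ N j := inf_le_left
      refine mres_injective_of_hasSlice h.hasSlice hle'
        (le_inf inf_le_right ((inf_le_inf_left W (inf_le_left.trans (hNU i))).trans he)) ?_
      show mres H hle' (mres H inf_le_left (s i)) = mres H hle' (mres H inf_le_right (s j))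
      rw [mres_mres, mres_mres,
        ← mres_mres H (inf_le_left : N i ⊓ V ≤ N i) (inf_le_inf_right V inf_le_left), hs i,
        ← mres_mres H (inf_le_left : N j ⊓ V ≤ N j) (inf_le_inf_right V inf_le_right), hs j,
        mres_mres, mres_mres]
  refine ⟨σ, TopCat.Presheaf.section_ext ⟨H.presheaf, H.isSheaf⟩ V _ t fun w hw => ?_⟩
  show H.presheaf.germ V w hw (mres H hle σ) = H.presheaf.germ V w hw t
  let i : U := ⟨w, hle hw⟩
  have h1 : mres H (hNU i) σ = s i := hσ i
  rw [germ_mres, ← germ_mres H (hNU i) (hzN i) σ, h1,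
    ← germ_mres H (inf_le_left : N i ⊓ V ≤ N i) ⟨hzN i, hw⟩ (s i), hs i, germ_mres]

theorem mono_unit_of_hasSlice (h : HasSlice H W) :
    Mono ((Scheme.Modules.restrictAdjunction W.ι).unit.app H) := by
  refine ⟨fun {K} g g' e => Scheme.Modules.hom_ext g g' fun U => ?_⟩
  ext x
  have h1 := congrArg (fun φ => (Scheme.Modules.Hom.app φ U) x) e
  simp only [Scheme.Modules.Hom.comp_app, Scheme.Modules.restrictAdjunction_unit_app_app] at h1
  refine mres_injective_of_hasSlice h (W.ι.image_preimage_le U) ?_ h1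
  rw [Scheme.Hom.image_preimage_eq_opensRange_inf, Scheme.Opens.opensRange_ι]

theorem isIso_unit_of_hasSlicePair (h : HasSlicePair H W) :
    IsIso ((Scheme.Modules.restrictAdjunction W.ι).unit.app H) :=
  AffHom12.isIso_unit_of_bijective H fun _ _ hle e =>
    mres_bijective_of_hasSlicePair h hle (e.le.trans inf_le_right)

end Groth.Agent.DepthAlong11
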