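import Groth.Agent.Lib.FibDepth5.UpSetConstr
import Groth.Agent.Lib.FibDepth5.ConstrLoc
import Groth.Agent.Lib.AdmBlowUp4.Ideals

/-!
# Constructibility of the fibrewise depth along a closed subset
-/

set_option autoImplicit false
set_option linter.style.haveILetI false
set_option backward.isDefEq.respectTransparency false

universe u

open CategoryTheory AlgebraicGeometry TopologicalSpace Topology

namespace Groth.Agent.DepthAlong11

open FibDim14 FibDepth5

variable {X S : Scheme.{u}} (f : X ⟶ S) [LocallyOfFinitePresentation f] (F : X.Modules) (Y : Closeds X)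

/-- The points of `Y` at which the fibrewise depth along `Y` is less than `n + 1`. -/
def badPts (n : ℕ) : Set X := {y | y ∈ Y ∧ ¬ ((n + 1 : ℕ) : ℕ∞) ≤ CInt.fiberDepthAlong f F (Y : Set X) y}

theorem mem_badPts_iff {n : ℕ} {y : X} :
    y ∈ badPts f F Y n ↔ ∃ z, z ⤳ y ∧ f z = f y ∧ z ∈ Y ∧ CInt.fiberDepth f F z ≤ n := by
  constructor
  · rintro ⟨-, h⟩
    simp only [CInt.fiberDepthAlong, le_iInf_iff, not_forall, not_le] at h
    obtain ⟨⟨z, hzY, hzy, hfz⟩, hlt⟩ := h
    refine ⟨z, hzy, hfz, hzY, ?_⟩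
    rw [Nat.cast_succ] at hlt
    exact ENat.lt_add_one_iff (ENat.natCast_ne_top n) |>.1 hlt
  · rintro ⟨z, hzy, hfz, hzY, hle⟩
    refine ⟨hzy.mem_closed Y.2 hzY, fun h => ?_⟩
    have h1 : ((n + 1 : ℕ) : ℕ∞) ≤ n :=
      (h.trans (iInf_le _ (⟨z, hzY, hzy, hfz⟩ : {z : X // z ∈ (Y : Set X) ∧ z ⤳ y ∧ f z = f y}))).trans hle
    rw [Nat.cast_le] at h1
    omega

/-- Near every point the residual degree is bounded. -/
theorem exists_rd_bound (x : X) :
    ∃ (U : X.Opens) (N : ℕ), IsAffineOpen U ∧ x ∈ U ∧ ∀ z ∈ U, rd f z ≤ N := by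
  obtain ⟨V, hV, U, hU, e, N, c, hx, hc, hct⟩ := exists_chart f x
  letI := c.toAlgebra
  refine ⟨U, N, hU, hx, fun z hz => ?_⟩
  rw [← rd_chartMap f hV hU e N hc hct ⟨z, hz⟩]
  obtain ⟨-, d, -, hd⟩ := affine_invariants Γ(S, V) N (chartMap hU N (V := V) ⟨z, hz⟩)
  omega

variable [Coh.IsQCoh F] (hfp : CohB1.IsFP F) (hY : IsLocallyConstructible (Y : Set X))
include hfp hY

omit [Coh.IsQCoh F] in
theorem isLocallyConstructible_badPts (n : ℕ) : IsLocallyConstructible (badPts f F Y n) := by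
  have hE : ∀ m : ℕ, IsLocallyConstructible {x : X | CInt.fiberDepth f F x + (rd f x : ℕ∞) ≤ (m : ℕ∞)} :=
    fun m x => by
      obtain ⟨U, hx, hle, -⟩ := exists_chart_constructible f F hfp x
      exact ⟨U, U.2.mem_nhds hx, U.2, hle m⟩
  choose U N hU hxU hN using fun x => exists_rd_bound f x
  refine IsLocallyConstructible.of_isOpenCover (U := U) (TopologicalSpace.IsOpenCover.mk
    (top_le_iff.1 fun x _ => Opens.mem_iSup.2 ⟨x, hxU x⟩)) fun x => ?_
  have h := IsLocallyConstructible.biUnion (Finset.range (N x + 1)).finite_toSet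
    (f := fun r => upSet f ((Y : Set X) ∩ {z | CInt.fiberDepth f F z + (rd f z : ℕ∞) ≤ ((n + r : ℕ) : ℕ∞)}) r)
    fun r _ => isLocallyConstructible_upSet f (hY.inter (hE _)) r
  refine (congrArg IsLocallyConstructible (Set.ext fun u => ?_)).mp
    (h.preimage_of_isOpenEmbedding (U x).2.isOpenEmbedding_subtypeVal)
  show u.1 ∈ ⋃ r ∈ ↑(Finset.range (N x + 1)), _ ↔ u.1 ∈ badPts f F Y n
  rw [mem_badPts_iff, Set.mem_iUnion₂]
  constructor
  · rintro ⟨r, -, z, hz, hfz, ⟨hzY, hzE⟩, hr⟩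
    refine ⟨z, hz, hfz, hzY, ?_⟩
    induction hd : CInt.fiberDepth f F z using ENat.recTopCoe with
    | top =>
      rw [Set.mem_setOf_eq, hd, top_add, top_le_iff] at hzE
      exact absurd hzE (ENat.natCast_ne_top _)
    | coe d =>
      rw [Set.mem_setOf_eq, hd, ← ENat.coe_add, Nat.cast_le] at hzE
      rw [Nat.cast_le]
      omega
  · rintro ⟨z, hz, hfz, hzY, hle⟩
    have hzU : z ∈ U x := hz.mem_open (U x).2 u.2
    refine ⟨rd f z, Finset.mem_coe.2 (Finset.mem_range.2 (Nat.lt_succ_of_le (hN x z hzU))), z, hz, hfz,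
      ⟨hzY, ?_⟩, le_rfl⟩
    rw [Set.mem_setOf_eq, Nat.cast_add]
    exact add_le_add_left hle _

omit [Coh.IsQCoh F] in
theorem isLocallyConstructible_le_fiberDepthAlong (n : ℕ) :
    IsLocallyConstructible {y : X | y ∈ Y ∧ (n : ℕ∞) ≤ CInt.fiberDepthAlong f F (Y : Set X) y} := by
  cases n with
  | zero =>
    refine (congrArg IsLocallyConstructible (Set.ext fun y => ?_)).mp hY
    simp
  | succ n =>
    refine (congrArg IsLocallyConstructible (Set.ext fun y => ?_)).mp
      (hY.inter (AnPtsTop.isLocallyConstructible_compl (isLocallyConstructible_badPts f F Y hfp hY n)))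
    simp only [badPts, Set.mem_inter_iff, Set.mem_compl_iff, Set.mem_setOf_eq, SetLike.mem_coe]
    tauto

omit [Coh.IsQCoh F] in
theorem isRetrocompact_le_fiberDepthAlong (n : ℕ) :
    IsRetrocompact {y : X | y ∈ Y ∧ (n : ℕ∞) ≤ CInt.fiberDepthAlong f F (Y : Set X) y} := by
  intro W hWc hWo
  choose U hU hxU hUW using fun w : W => exists_isAffineOpen_mem_and_subset (x := w.1) (U := ⟨W, hWo⟩) w.2
  obtain ⟨σ, hσ⟩ := hWc.elim_finite_subcover (fun w => (U w : Set X)) (fun w => (U w).2)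
    fun w hw => Set.mem_iUnion.2 ⟨⟨w, hw⟩, hxU ⟨w, hw⟩⟩
  have heq : W ∩ {y : X | y ∈ Y ∧ (n : ℕ∞) ≤ CInt.fiberDepthAlong f F (Y : Set X) y} =
      ⋃ w ∈ (σ : Set W), Subtype.val '' (Subtype.val ⁻¹'
        {y : X | y ∈ Y ∧ (n : ℕ∞) ≤ CInt.fiberDepthAlong f F (Y : Set X) y} : Set (U w)) := by
    refine Set.Subset.antisymm (fun y hy => ?_) (Set.iUnion₂_subset fun w _ => ?_)
    · obtain ⟨w, hw, hyw⟩ := Set.mem_iUnion₂.1 (hσ hy.1)
      exact Set.mem_iUnion₂.2 ⟨w, hw, ⟨y, hyw⟩, hy.2, rfl⟩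
    · rintro _ ⟨v, hv, rfl⟩
      exact ⟨hUW w v.2, hv⟩
  rw [Set.inter_comm, heq]
  refine σ.finite_toSet.isCompact_biUnion fun w _ => ?_
  haveI : IsAffine (U w).toScheme := hU w
  haveI : CompactSpace (U w).toScheme := inferInstance
  haveI : QuasiSeparatedSpace (U w).toScheme := inferInstance
  exact (AdmBlowUp4.isCompact_of_isConstructible (α := (U w).toScheme)
    (IsLocallyConstructible.isConstructible (X := (U w).toScheme)
      ((isLocallyConstructible_le_fiberDepthAlong f F Y hfp hY n).preimage_of_isOpenEmbedding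
        (U w).2.isOpenEmbedding_subtypeVal))).image continuous_subtype_val

/-- Locally on `Y` the fibrewise depth along `Y` takes finitely many values, with constructible level sets. -/
theorem exists_nhd_constructible_levels (hfl : FlatMod.IsFlatOver f F) (y₀ : (Y : Set X)) :
    ∃ V : Opens (Y : Set X), y₀ ∈ V ∧
      ((fun y : (Y : Set X) => CInt.fiberDepthAlong f F (Y : Set X) y.1) '' (V : Set (Y : Set X))).Finite ∧
      ∀ t : ℕ∞, IsConstructible {v : V | CInt.fiberDepthAlong f F (Y : Set X) v.1.1 = t} := by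
  obtain ⟨U, N, hU, hyU, hN⟩ := exists_rd_bound f y₀.1
  let V : Opens (Y : Set X) := ⟨Subtype.val ⁻¹' (U : Set X), U.2.preimage continuous_subtype_val⟩
  have hval : ∀ y : (Y : Set X), y.1 ∈ U → CInt.fiberDepthAlong f F (Y : Set X) y.1 = ⊤ ∨
      ∃ d : ℕ, d ≤ N ∧ CInt.fiberDepthAlong f F (Y : Set X) y.1 = d := by
    intro y hy
    induction hd : CInt.fiberDepthAlong f F (Y : Set X) y.1 using ENat.recTopCoe with
    | top => exact Or.inl rfl
    | coe d =>
      refine Or.inr ⟨d, ?_, rfl⟩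
      have hbad : y.1 ∈ badPts f F Y d := ⟨y.2, by rw [hd, Nat.cast_le]; omega⟩
      obtain ⟨z, hzy, hfz, hzY, hle⟩ := (mem_badPts_iff f F Y).1 hbad
      obtain ⟨hdata, -⟩ := fibData_mod f F hfp hfl
      have hzT : z ∈ fibSupp f F := by
        by_contra h
        rw [(hdata.top_D z h).1, top_le_iff] at hle
        exact ENat.natCast_ne_top _ hle
      obtain ⟨d', hd', hS⟩ := hdata.le_S z hzT
      obtain ⟨b, δ, hb, hδ, -, x', hx', -, -, hr⟩ := hdata.dim_rd z hzT
      have h1 : (d : ℕ∞) ≤ d' := by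
        rw [← hd, ← hd']
        exact iInf_le _ (⟨z, hzY, hzy, hfz⟩ : {z : X // z ∈ (Y : Set X) ∧ z ⤳ y.1 ∧ f z = f y.1})
      rw [hb] at hS
      have h2 : rd f x' ≤ N := hN x' ((hx'.trans hzy).mem_open U.2 hy)
      have h1' : d ≤ d' := by exact_mod_cast h1
      have hS' : d' ≤ b := by exact_mod_cast hS
      omega
  refine ⟨V, hyU, ?_, fun t => ?_⟩
  · refine Set.Finite.subset (((Finset.range (N + 1)).finite_toSet.image fun d : ℕ => (d : ℕ∞)).insert ⊤) ?_
    rintro _ ⟨y, hy, rfl⟩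
    rcases hval y hy with h | ⟨d, hd, h⟩
    · exact Set.mem_insert_iff.2 (Or.inl h)
    · exact Set.mem_insert_iff.2 (Or.inr ⟨d, Finset.mem_coe.2 (Finset.mem_range.2 (by omega)), h.symm⟩)
  · haveI : IsAffine U.toScheme := hU
    let j : V → U.toScheme := fun v => ⟨v.1.1, v.2⟩
    have hind : IsEmbedding j :=
      (IsEmbedding.subtypeVal.comp IsEmbedding.subtypeVal).codRestrict _ _
    have hrange : Set.range j = (Subtype.val ⁻¹' (Y : Set X) : Set U.toScheme) := by
      ext u
      exact ⟨by rintro ⟨v, rfl⟩; exact v.1.2, fun h => ⟨⟨⟨u.1, h⟩, u.2⟩, rfl⟩⟩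
    have hcl : IsClosedEmbedding j := ⟨hind, by rw [hrange]; exact Y.2.preimage continuous_subtype_val⟩
    have hcomp : IsCompact (Set.range j)ᶜ := by
      rw [hrange]
      exact AdmBlowUp4.isCompact_of_isConstructible (α := U.toScheme)
        (IsLocallyConstructible.isConstructible (X := U.toScheme) (hY.preimage_of_isOpenEmbedding
          U.2.isOpenEmbedding_subtypeVal)).compl
    have hge : ∀ n : ℕ, IsConstructible
        {v : V | (n : ℕ∞) ≤ CInt.fiberDepthAlong f F (Y : Set X) v.1.1} := fun n => by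
      refine (congrArg IsConstructible (Set.ext fun v => ?_)).mp
        ((IsLocallyConstructible.isConstructible (X := U.toScheme)
          ((isLocallyConstructible_le_fiberDepthAlong f F Y hfp hY n).preimage_of_isOpenEmbedding
            U.2.isOpenEmbedding_subtypeVal)).preimage_of_isClosedEmbedding hcl hcomp)
      exact ⟨fun h => h.2, fun h => ⟨v.1.2, h⟩⟩
    induction t using ENat.recTopCoe with
    | top =>
      refine (congrArg IsConstructible (Set.ext fun v => ?_)).mp (hge (N + 1))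
      rw [Set.mem_setOf_eq, Set.mem_setOf_eq]
      refine ⟨fun h => (hval v.1 v.2).resolve_right fun ⟨d, hd, h'⟩ => ?_, fun h => by rw [h]; exact le_top⟩
      rw [h', Nat.cast_le] at h
      omega
    | coe d =>
      refine (congrArg IsConstructible (Set.ext fun v => ?_)).mp ((hge d).sdiff (hge (d + 1)))
      show (d : ℕ∞) ≤ CInt.fiberDepthAlong f F (Y : Set X) v.1.1 ∧
          ¬ ((d + 1 : ℕ) : ℕ∞) ≤ CInt.fiberDepthAlong f F (Y : Set X) v.1.1 ↔
        CInt.fiberDepthAlong f F (Y : Set X) v.1.1 = (d : ℕ∞)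
      induction CInt.fiberDepthAlong f F (Y : Set X) v.1.1 using ENat.recTopCoe with
      | top => exact iff_of_false (fun h => h.2 le_top) (fun h => ENat.natCast_ne_top _ h.symm)
      | coe e =>
        rw [Nat.cast_le, Nat.cast_le, Nat.cast_inj]
        omega

end Groth.Agent.DepthAlong11
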