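import Groth.Agent.Lib.DepthAlong11.FibreRing

/-!
# Sequences of length two regular after tensoring with any module of the base
-/

universe u

open IsLocalRing TensorProduct Polynomial Pointwise

set_option autoImplicit false
set_option linter.style.haveILetI false
set_option backward.isDefEq.respectTransparency false

namespace Groth.Agent.DepthAlong11

variable {A B : Type u} [CommRing A] [CommRing B] [Algebra A B] [Algebra.FinitePresentation A B]
  {M : Type u} [AddCommGroup M] [Module B M] [Module A M] [IsScalarTower A B M] [Module.FinitePresentation B M]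

/-- One slicing step, near `q`. -/
theorem exists_slice_step (J q : Ideal B) [q.IsPrime] (hJq : J ≤ q)
    (hflat : Module.Flat A (LocalizedModule q.primeCompl M))
    (h : ∀ P : PrimeSpectrum B, J ≤ P.asIdeal → P.asIdeal ≤ q →
      P.asIdeal.comap (algebraMap A B) = q.comap (algebraMap A B) → (1 : ℕ∞) ≤ fibDepth A P M) :
    ∃ a ∈ J, ∃ f ∉ q, ∀ p : PrimeSpectrum B, f ∉ p.asIdeal →
      IsSMulRegular (EGA4.FibLocMod A B p.asIdeal M) a ∧
      IsSMulRegular (LocalizedModule p.asIdeal.primeCompl M) a ∧
      Module.Flat A (LocalizedModule p.asIdeal.primeCompl (QuotSMulTop a M)) := by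
  obtain ⟨a, haJ, ha⟩ := exists_fibRegMod_mem J q (A := A) (M := M) h
  letI : Algebra A[X] B := (Polynomial.aeval a).toRingHom.toAlgebra
  haveI : IsScalarTower A A[X] B :=
    IsScalarTower.of_algebraMap_eq fun c => ((Polynomial.aeval a).commutes c).symm
  letI : Module A[X] M := Module.compHom M (algebraMap A[X] B)
  haveI : IsScalarTower A[X] B M := IsScalarTower.of_algebraMap_smul fun _ _ => rfl
  have hX : algebraMap A[X] B X = a := Polynomial.aeval_X a
  haveI : Algebra.FinitePresentation A[X] B :=
    Algebra.FinitePresentation.of_restrict_scalars_finitePresentation A A[X] B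
  have hflX : Module.Flat A[X] (LocalizedModule q.primeCompl M) :=
    SliceMod5.flat_polynomial q (by rw [hX]; exact hJq haJ) hflat (by rw [hX]; exact ha)
  obtain ⟨_, ⟨f, rfl⟩, hfq, hfU⟩ := PrimeSpectrum.isTopologicalBasis_basic_opens.isOpen_iff.1
    (FlatH4.isOpen_flat_localized (R := A[X]) (S := B) (M := M)) ⟨q, inferInstance⟩ hflX
  refine ⟨a, haJ, f, hfq, fun p hp => ?_⟩
  have hfl : Module.Flat A[X] (LocalizedModule p.asIdeal.primeCompl M) := hfU (a := p) hp
  haveI := hfl
  let L := LocalizedModule p.asIdeal.primeCompl M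
  have hreg : IsSMulRegular (EGA4.FibLocMod A B p.asIdeal M) a := by
    rw [← hX]; exact isSMulRegular_fibre_of_flat_polynomial p.asIdeal hfl
  refine ⟨hreg, ?_⟩
  by_cases hap : a ∈ p.asIdeal
  · have hfA : Module.Flat A L := by
      haveI : IsScalarTower A A[X] L := IsScalarTower.of_algebraMap_smul fun c x => by
        rw [← algebraMap_smul B (algebraMap A A[X] c) x, ← IsScalarTower.algebraMap_apply A A[X] B, algebraMap_smul]
      exact Module.Flat.trans A A[X] L
    refine SliceMod5.slice_step p.asIdeal a hap hfA (fun m t ht htm => ?_)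
      (a • (⊤ : Submodule B M)).mkQ (Submodule.mkQ_surjective _)
      (by rw [Submodule.ker_mkQ, Submodule.ideal_span_singleton_smul])
    let ι := LocalizedModule.mkLinearMap p.asIdeal.primeCompl M
    let I : Ideal (Localization.AtPrime p.asIdeal) :=
      (p.asIdeal.comap (algebraMap A B)).map (algebraMap A (Localization.AtPrime p.asIdeal))
    have hI : ((p.asIdeal.comap (algebraMap A B)).map (algebraMap A B)).map
        (algebraMap B (Localization.AtPrime p.asIdeal)) = I := by
      rw [Ideal.map_map, ← IsScalarTower.algebraMap_eq]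
    have h1 : ι (t • a • m) ∈ I • (⊤ : Submodule (Localization.AtPrime p.asIdeal) L) := by
      rw [mem_map_smul_top_iff] at htm ⊢
      have h2 := Submodule.mem_map_of_mem (f := ι.restrictScalars A) htm
      rw [Submodule.map_smul''] at h2
      exact Submodule.smul_mono le_rfl le_top h2
    rw [map_smul, map_smul] at h1
    have h2 := SliceMod5.mem_of_smul_mem p.asIdeal _ ht h1
    have h3 : ι m ∈ I • (⊤ : Submodule (Localization.AtPrime p.asIdeal) L) := by
      rw [← Submodule.Quotient.mk_eq_zero, Submodule.Quotient.mk_smul] at h2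
      exact (Submodule.Quotient.mk_eq_zero _).1 (hreg.right_eq_zero_of_smul h2)
    rw [← hI, ← SliceMod5.ker_map_mkQ p.asIdeal
      ((p.asIdeal.comap (algebraMap A B)).map (algebraMap A B) • (⊤ : Submodule B M)).mkQ _
      (Submodule.ker_mkQ _), IsLocalizedModule.map_apply] at h3
    obtain ⟨⟨s, hs⟩, hs'⟩ := (IsLocalizedModule.eq_zero_iff p.asIdeal.primeCompl _).1 h3
    change s • (Submodule.Quotient.mk m : M ⧸ (_ : Submodule B M)) = 0 at hs'
    rw [← Submodule.Quotient.mk_smul, Submodule.Quotient.mk_eq_zero] at hs'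
    exact ⟨s, hs, hs'⟩
  · refine ⟨fun x y hxy => ?_, ?_⟩
    · exact IsLocalizedModule.smul_injective (LocalizedModule.mkLinearMap p.asIdeal.primeCompl M)
        (⟨a, hap⟩ : p.asIdeal.primeCompl) hxy
    · haveI : Subsingleton (LocalizedModule p.asIdeal.primeCompl (QuotSMulTop a M)) :=
        LocalizedModule.subsingleton_iff.2 fun m => ⟨a, hap,
          Module.mem_annihilator.1 (QuotSMulTop.mem_annihilator M a) m⟩
      infer_instance

/-- Two slicing steps, near `q`. -/
theorem exists_slice_pair (J q : Ideal B) [q.IsPrime] (hJq : J ≤ q)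
    (hflat : Module.Flat A (LocalizedModule q.primeCompl M))
    (h : ∀ P : PrimeSpectrum B, J ≤ P.asIdeal → P.asIdeal ≤ q →
      P.asIdeal.comap (algebraMap A B) = q.comap (algebraMap A B) → (2 : ℕ∞) ≤ fibDepth A P M) :
    ∃ a ∈ J, ∃ b ∈ J, ∃ f ∉ q, ∀ p : PrimeSpectrum B, f ∉ p.asIdeal →
      IsSMulRegular (LocalizedModule p.asIdeal.primeCompl M) a ∧
      Module.Flat A (LocalizedModule p.asIdeal.primeCompl (QuotSMulTop a M)) ∧
      IsSMulRegular (LocalizedModule p.asIdeal.primeCompl (QuotSMulTop a M)) b ∧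
      Module.Flat A (LocalizedModule p.asIdeal.primeCompl (QuotSMulTop b (QuotSMulTop a M))) := by
  obtain ⟨a, haJ, f, hf, hfp⟩ := exists_slice_step J q hJq hflat fun P hP hPq hPp =>
    le_trans (by norm_num) (h P hP hPq hPp)
  haveI : Module.FinitePresentation B (QuotSMulTop a M) :=
    Module.finitePresentation_of_surjective (Submodule.mkQ _) (Submodule.mkQ_surjective _)
      (by rw [Submodule.ker_mkQ, ← Submodule.ideal_span_singleton_smul]
          exact Submodule.FG.smul ⟨{a}, by simp⟩ Module.Finite.fg_top)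
  obtain ⟨b, hbJ, g, hg, hgp⟩ := exists_slice_step (M := QuotSMulTop a M) J q hJq
    ((hfp ⟨q, inferInstance⟩ hf).2.2) fun P hP hPq hPp => by
      have h2 := h P hP hPq hPp
      rw [← fibDepth_quotSMulTop P (hP haJ) (hfp P fun hh => hf (hPq hh)).1, ← one_add_one_eq_two] at h2
      exact (ENat.add_le_add_iff_right ENat.one_ne_top).1 h2
  refine ⟨a, haJ, b, hbJ, f * g, fun hm => (Ideal.IsPrime.mem_or_mem inferInstance hm).elim hf hg,
    fun p hp => ?_⟩
  obtain ⟨-, h1, h2⟩ := hfp p fun hh => hp (Ideal.mul_mem_right _ _ hh)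
  obtain ⟨-, h3, h4⟩ := hgp p fun hh => hp (Ideal.mul_mem_left _ _ hh)
  exact ⟨h1, h2, h3, h4⟩

section Transfer

variable {R S : Type u} [CommRing R] [CommRing S] [Algebra R S]

/-- A regular element with flat quotient stays regular after tensoring, and the quotient commutes. -/
theorem regular_tensor_pair {N : Type u} [AddCommGroup N] [Module S N] [Module R N] [IsScalarTower R S N]
    (G : Type u) [AddCommGroup G] [Module R G] (a : S) (ha : IsSMulRegular N a)
    [Module.Flat R (QuotSMulTop a N)] :
    IsSMulRegular (N ⊗[R] G) a ∧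
      Nonempty ((QuotSMulTop a N) ⊗[R] G ≃ₗ[S] QuotSMulTop a (N ⊗[R] G)) := by
  refine ⟨FlatDepth.isSMulRegular_tensor_of_flat_quot ha G, ?_⟩
  let π : N →ₗ[S] QuotSMulTop a N := (a • (⊤ : Submodule S N)).mkQ
  let ρ : N ⊗[R] G →ₗ[S] QuotSMulTop a N ⊗[R] G := AlgebraTensorModule.rTensor R G π
  have hρ : Function.Surjective ρ := LinearMap.rTensor_surjective G
    (g := π.restrictScalars R) (Submodule.mkQ_surjective (a • (⊤ : Submodule S N)))
  have hex : Function.Exact ((LinearMap.lsmul S N a).restrictScalars R) (π.restrictScalars R) :=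
    fun y => by
      rw [LinearMap.restrictScalars_apply, Submodule.mkQ_apply, Submodule.Quotient.mk_eq_zero,
        Submodule.mem_smul_pointwise_iff_exists]
      exact ⟨fun ⟨x, _, hx⟩ => ⟨x, hx⟩, fun ⟨x, hx⟩ => ⟨x, trivial, hx⟩⟩
  have hex' := rTensor_exact G hex (Submodule.mkQ_surjective (a • (⊤ : Submodule S N)))
  have key : ∀ w : N ⊗[R] G, ((LinearMap.lsmul S N a).restrictScalars R).rTensor G w = a • w := fun w => by
    induction w using TensorProduct.induction_on with
    | zero => simp
    | tmul x y => rfl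
    | add x y hx hy => rw [map_add, hx, hy, smul_add]
  have hk : LinearMap.ker ρ = a • (⊤ : Submodule S (N ⊗[R] G)) := by
    ext z
    rw [LinearMap.mem_ker, Submodule.mem_smul_pointwise_iff_exists]
    refine ((hex' z).trans ?_)
    exact ⟨fun ⟨w, hw⟩ => ⟨w, trivial, (key w).symm.trans hw⟩, fun ⟨w, _, hw⟩ => ⟨w, (key w).trans hw⟩⟩
  exact ⟨(ρ.quotKerEquivOfSurjective hρ).symm.trans (Submodule.quotEquivOfEq _ _ hk)⟩

end Transfer

end Groth.Agent.DepthAlong11
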