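import Groth.Agent.Lib.DepthAlong11.Ring
import Groth.Agent.Lib.SliceMod5.Main
import Groth.Agent.Lib.FibDepth5.Sk
import Groth.Agent.Lib.FibDepth5.Model
import Groth.Agent.Lib.FlatH4.FlatLocusFP

/-!
# Openness of the depth of the fibres along a closed set
-/

universe u

open IsLocalRing TensorProduct Polynomial Pointwise

set_option autoImplicit false
set_option linter.style.haveILetI false
set_option backward.isDefEq.respectTransparency false

namespace Groth.Agent.DepthAlong11

/-- `p S • L` and `p • L` agree. -/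
theorem mem_map_smul_top_iff {A S : Type u} [CommRing A] [CommRing S] [Algebra A S] {L : Type u}
    [AddCommGroup L] [Module A L] [Module S L] [IsScalarTower A S L] (p : Ideal A) (x : L) :
    x ∈ p.map (algebraMap A S) • (⊤ : Submodule S L) ↔ x ∈ p • (⊤ : Submodule A L) := by
  refine ⟨fun hx => ?_, fun hx => SliceMod5.smul_top_le p hx⟩
  refine Submodule.smul_induction_on hx (fun r hr n _ => ?_) fun a b ha hb => add_mem ha hb
  induction hr using Submodule.span_induction generalizing n with
  | mem r hr =>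
      obtain ⟨a, ha, rfl⟩ := hr
      rw [algebraMap_smul]
      exact Submodule.smul_mem_smul ha trivial
  | zero => rw [zero_smul]; exact zero_mem _
  | add a b _ _ ha hb => rw [add_smul]; exact add_mem (ha n trivial) (hb n trivial)
  | smul c b _ hb => rw [smul_eq_mul, mul_comm, mul_smul]; exact hb (c • n) trivial

variable {A B : Type u} [CommRing A] [CommRing B] [Algebra A B]

theorem isNoetherianRing_fibLocRing [Algebra.FiniteType A B] (q : Ideal B) [q.IsPrime] :
    IsNoetherianRing (EGA4.FibLocRing A B q) := by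
  obtain ⟨N, φ, hφ⟩ := Algebra.FiniteType.iff_quotient_mvPolynomial''.mp ‹Algebra.FiniteType A B›
  let P := MvPolynomial (Fin N) A
  let q' : PrimeSpectrum P := ⟨q.comap φ.toRingHom, inferInstance⟩
  haveI := (FibDepth5.affine_invariants A N q').1
  let ρ := Localization.localRingHom q'.asIdeal q φ.toRingHom rfl
  have hρ : Function.Surjective ρ := RingHom.surjectiveOnStalks_of_surjective hφ q ‹_›
  have hker : (q'.asIdeal.comap (algebraMap A P)).map (algebraMap A (Localization.AtPrime q'.asIdeal)) ≤
      RingHom.ker ((Ideal.Quotient.mk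
        ((q.comap (algebraMap A B)).map (algebraMap A (Localization.AtPrime q)))).comp ρ) := by
    rw [Ideal.map_le_iff_le_comap]
    intro a ha
    have ha' : a ∈ q.comap (algebraMap A B) := by
      have h : φ (algebraMap A P a) ∈ q := ha
      rwa [φ.commutes] at h
    show Ideal.Quotient.mk _ (ρ (algebraMap A (Localization.AtPrime q'.asIdeal) a)) = 0
    rw [Ideal.Quotient.eq_zero_iff_mem, IsScalarTower.algebraMap_apply A P (Localization.AtPrime q'.asIdeal),
      Localization.localRingHom_to_map, show φ.toRingHom (algebraMap A P a) = algebraMap A B a from φ.commutes a,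
      ← IsScalarTower.algebraMap_apply]
    exact Ideal.mem_map_of_mem _ ha'
  haveI : IsNoetherianRing (EGA4.FibLocRing A P q'.asIdeal) := inferInstance
  exact isNoetherianRing_of_surjective (EGA4.FibLocRing A P q'.asIdeal) _ (Ideal.Quotient.lift _ _ fun a ha => hker ha)
    (Ideal.Quotient.lift_surjective_of_surjective _ _ (Ideal.Quotient.mk_surjective.comp hρ))

variable (A) in
/-- The depth of the fibre of a module at a prime. -/
noncomputable def fibDepth (q : PrimeSpectrum B) (M : Type u) [AddCommGroup M] [Module B M] : ℕ∞ :=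
  haveI := FibDepth5.isLocalRing_fibLocRing (A := A) q.asIdeal
  LocCoh.depth (EGA4.FibLocRing A B q.asIdeal) (EGA4.FibLocMod A B q.asIdeal M)

variable {M : Type u} [AddCommGroup M] [Module B M] [Module A M] [IsScalarTower A B M]

local notation "pB" q => Ideal.map (algebraMap A B) (Ideal.comap (algebraMap A B) q)

set_option maxHeartbeats 1600000 in
/-- If `J` has no element regular on the fibre at `q`, some generization in the fibre has depth zero. -/
theorem exists_fibRegMod_mem [Algebra.FiniteType A B] [Module.Finite B M] (J q : Ideal B) [q.IsPrime]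
    (h : ∀ P : PrimeSpectrum B, J ≤ P.asIdeal → P.asIdeal ≤ q →
      P.asIdeal.comap (algebraMap A B) = q.comap (algebraMap A B) → (1 : ℕ∞) ≤ fibDepth A P M) :
    ∃ a ∈ J, SliceMod5.FibRegMod q A M a := by
  classical
  let p := q.comap (algebraMap A B)
  let k := p.ResidueField
  letI := FlatH4.tensorModule A k B M
  haveI := FlatH4.tensorModule_finite A k B M
  haveI : IsNoetherianRing (k ⊗[A] B) := Algebra.FiniteType.isNoetherianRing k (k ⊗[A] B)
  let ι : B →+* k ⊗[A] B := (Algebra.TensorProduct.includeRight : B →ₐ[A] k ⊗[A] B).toRingHom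
  have hact : ∀ (b : B) (m : M), ι b • ((1 : k) ⊗ₜ[A] m) = (1 : k) ⊗ₜ[A] (b • m) := by
    intro b m
    show FlatH4.tensorAct A k B M ((1 : k) ⊗ₜ b) ((1 : k) ⊗ₜ m) = _
    rw [FlatH4.tensorAct_tmul, one_mul]
  haveI : IsScalarTower A (k ⊗[A] B) (k ⊗[A] M) := IsScalarTower.of_algebraMap_smul fun c z => by
    induction z using TensorProduct.induction_on with
    | zero => simp
    | add a b ha hb => rw [smul_add, ha, hb, smul_add]
    | tmul l m =>
      show FlatH4.tensorAct A k B M ((algebraMap A k c) ⊗ₜ (1 : B)) (l ⊗ₜ m) = c • (l ⊗ₜ[A] m)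
      rw [FlatH4.tensorAct_tmul, one_smul, TensorProduct.smul_tmul', ← Algebra.smul_def]
  have hzero : ∀ y : M, y ∈ (pB q) • (⊤ : Submodule B M) → (1 : k) ⊗ₜ[A] y = 0 := fun y hy => by
    rw [mem_map_smul_top_iff] at hy
    refine Submodule.smul_induction_on hy (fun r hr n _ => ?_) fun a b ha hb => by rw [tmul_add, ha, hb, add_zero]
    rw [← TensorProduct.smul_tmul, Algebra.smul_def, mul_one, Ideal.algebraMap_residueField_eq_zero.2 hr,
      TensorProduct.zero_tmul]
  have hfin : (associatedPrimes (k ⊗[A] B) (k ⊗[A] M)).Finite := associatedPrimes.finite _ _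
  let T := hfin.toFinset.filter fun P' => P'.comap ι ≤ q
  have hns : ¬ (J : Set B) ⊆ ⋃ P' ∈ (T : Set (Ideal (k ⊗[A] B))), (P'.comap ι : Set B) := by
    intro hcov
    obtain ⟨P', hP', hJP⟩ := (Ideal.subset_union_prime (⊥ : Ideal (k ⊗[A] B)) ⊥
      (fun (P' : Ideal (k ⊗[A] B)) hP' _ _ =>
        haveI : P'.IsPrime := IsAssociatedPrime.isPrime (hfin.mem_toFinset.1 (Finset.mem_filter.1 hP').1)
        inferInstance)).1 hcov
    obtain ⟨hP1, hPq⟩ := Finset.mem_filter.1 hP'
    obtain ⟨hprime, x, hx⟩ := isAssociatedPrime_iff.1 (hfin.mem_toFinset.1 hP1)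
    haveI := hprime
    let P : PrimeSpectrum B := ⟨P'.comap ι, inferInstance⟩
    have hu : ∀ c : A, c ∉ p → IsUnit (algebraMap A (k ⊗[A] B) c) := fun c hc => by
      rw [IsScalarTower.algebraMap_apply A k (k ⊗[A] B)]
      refine (IsUnit.mk0 _ ?_).map _
      rwa [Ne, Ideal.algebraMap_residueField_eq_zero]
    have hι : ∀ c : A, ι (algebraMap A B c) = algebraMap A (k ⊗[A] B) c := fun c =>
      (Algebra.TensorProduct.includeRight : B →ₐ[A] k ⊗[A] B).commutes c
    have hPp : P.asIdeal.comap (algebraMap A B) = p := by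
      refine le_antisymm (Ideal.comap_mono hPq) fun c hc => ?_
      show ι (algebraMap A B c) ∈ P'
      rw [hι, IsScalarTower.algebraMap_apply A k (k ⊗[A] B), Ideal.algebraMap_residueField_eq_zero.2 hc, map_zero]
      exact zero_mem _
    haveI := isNoetherianRing_fibLocRing (A := A) P.asIdeal
    haveI := FibDepth5.isLocalRing_fibLocRing (A := A) P.asIdeal
    let L := EGA4.FibLocMod A B P.asIdeal M
    let R := EGA4.FibLocRing A B P.asIdeal
    haveI : Module.Finite R L := Module.Finite.of_restrictScalars_finite (Localization.AtPrime P.asIdeal) _ _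
    obtain ⟨c, hc, m, hm⟩ : ∃ c ∉ p, ∃ m : M, c • x = (1 : k) ⊗ₜ[A] m := by
      clear hx
      induction x using TensorProduct.induction_on with
      | zero => exact ⟨1, fun h1 => Ideal.IsPrime.ne_top inferInstance ((Ideal.eq_top_iff_one p).2 h1), 0, by simp⟩
      | tmul l m =>
        obtain ⟨z, rfl⟩ := IsLocalRing.residue_surjective (R := Localization.AtPrime p) l
        obtain ⟨⟨a, c⟩, hac⟩ := IsLocalization.surj p.primeCompl z
        refine ⟨c, c.2, a • m, ?_⟩
        have h1 := congrArg (IsLocalRing.residue (Localization.AtPrime p)) hac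
        rw [map_mul] at h1
        rw [TensorProduct.smul_tmul', ← TensorProduct.smul_tmul]
        congr 1
        rw [Algebra.smul_def, Algebra.smul_def, mul_one, mul_comm]
        exact h1
      | add x y hx hy =>
        obtain ⟨a, ha, m, hm⟩ := hx
        obtain ⟨b, hb, n, hn⟩ := hy
        refine ⟨a * b, fun h1 => (Ideal.IsPrime.mem_or_mem inferInstance h1).elim ha hb, b • m + a • n, ?_⟩
        rw [TensorProduct.tmul_add, TensorProduct.tmul_smul, TensorProduct.tmul_smul, ← hm, ← hn, smul_add,
          smul_smul, smul_smul, mul_comm b a]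
    have hann : ∀ b : B, b ∈ P.asIdeal ↔ (1 : k) ⊗ₜ[A] (b • m) = 0 := fun b => by
      rw [← hact, ← hm, ← algebraMap_smul (k ⊗[A] B) c x, smul_comm, (hu c hc).smul_eq_zero]
      show ι b ∈ P' ↔ _
      rw [hx, Submodule.mem_colon_singleton, Submodule.mem_bot]
    let g : M →ₗ[B] L := ((Submodule.mkQ _).restrictScalars B).comp
      (LocalizedModule.mkLinearMap P.asIdeal.primeCompl M)
    have hgI : ∀ y : M, y ∈ (pB q) • (⊤ : Submodule B M) → g y = 0 := fun y hy => by
      refine (Submodule.Quotient.mk_eq_zero _).2 ?_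
      rw [mem_map_smul_top_iff,
        show Ideal.comap (algebraMap A B) q = P.asIdeal.comap (algebraMap A B) from hPp.symm] at hy
      rw [mem_map_smul_top_iff]
      have h1 := Submodule.mem_map_of_mem
        (f := (LocalizedModule.mkLinearMap P.asIdeal.primeCompl M).restrictScalars A) hy
      rw [Submodule.map_smul''] at h1
      exact Submodule.smul_mono le_rfl le_top h1
    have hgP : ∀ b ∈ P.asIdeal, b • g m = 0 := fun b hb => by
      obtain ⟨c', hc', hcm⟩ := SliceMod5.exists_smul_mem_of_tmul_one_eq_zero p ((hann b).1 hb)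
      have h1 : algebraMap A B c' • (b • g m) = 0 := by
        rw [← map_smul, ← map_smul, algebraMap_smul]
        exact hgI _ (SliceMod5.smul_top_le p hcm)
      have hcP : algebraMap A B c' ∉ P.asIdeal := fun hh => hc' (hPp.le hh)
      have := SliceMod5.mem_of_smul_mem P.asIdeal (⊥ : Submodule (Localization.AtPrime P.asIdeal) L) hcP
        ((Submodule.mem_bot _).2 h1)
      exact (Submodule.mem_bot _).1 this
    have hgne : g m ≠ 0 := by
      intro h0
      have h1 : IsLocalizedModule.map P.asIdeal.primeCompl (LocalizedModule.mkLinearMap P.asIdeal.primeCompl M)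
          (LocalizedModule.mkLinearMap P.asIdeal.primeCompl (M ⧸ (pB q) • (⊤ : Submodule B M)))
          ((pB q) • (⊤ : Submodule B M)).mkQ (LocalizedModule.mkLinearMap P.asIdeal.primeCompl M m) = 0 := by
        rw [SliceMod5.ker_map_mkQ _ _ _ (Submodule.ker_mkQ _), Ideal.map_map, ← IsScalarTower.algebraMap_eq,
          ← show P.asIdeal.comap (algebraMap A B) = q.comap (algebraMap A B) from hPp]
        exact (Submodule.Quotient.mk_eq_zero _).1 h0
      rw [IsLocalizedModule.map_apply] at h1
      obtain ⟨⟨s, hs⟩, hs'⟩ := (IsLocalizedModule.eq_zero_iff P.asIdeal.primeCompl _).1 h1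
      change s • (Submodule.Quotient.mk m : M ⧸ (pB q) • (⊤ : Submodule B M)) = 0 at hs'
      rw [← Submodule.Quotient.mk_smul, Submodule.Quotient.mk_eq_zero] at hs'
      exact hs ((hann s).2 (hzero _ hs'))
    have h1 : (1 : ℕ∞) ≤ LocCoh.depth R L := h P hJP hPq hPp
    haveI : Nontrivial L := ⟨⟨_, _, hgne⟩⟩
    have hne' : maximalIdeal R • (⊤ : Submodule R L) ≠ ⊤ := fun htop =>
      top_ne_bot (α := Submodule R L)
        (Submodule.eq_bot_of_le_smul_of_le_jacobson_bot (maximalIdeal R) ⊤ Module.Finite.fg_top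
          htop.ge (maximalIdeal_le_jacobson _))
    obtain ⟨y, hy, hreg⟩ := DepthLib.exists_isSMulRegular_of_one_le_idealDepth hne' h1
    obtain ⟨y, rfl⟩ := Ideal.Quotient.mk_surjective y
    obtain ⟨b, s, rfl⟩ := IsLocalization.exists_mk'_eq P.asIdeal.primeCompl y
    have hb : b ∈ P.asIdeal := by
      refine (IsLocalization.AtPrime.mk'_mem_maximal_iff (Localization.AtPrime P.asIdeal) P.asIdeal b s).1 ?_
      by_contra hu'
      rw [mem_maximalIdeal, mem_nonunits_iff, not_not] at hu'
      exact (maximalIdeal.isMaximal R).ne_top (Ideal.eq_top_of_isUnit_mem _ hy (hu'.map _))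
    refine hgne (hreg.right_eq_zero_of_smul ?_)
    show IsLocalization.mk' (Localization.AtPrime P.asIdeal) b s • g m = 0
    rw [IsLocalization.mk'_eq_mul_mk'_one, mul_comm, mul_smul, algebraMap_smul, hgP b hb, smul_zero]
  obtain ⟨a, haJ, ha⟩ := Set.not_subset.1 hns
  refine ⟨a, haJ, fun m t ht htm => ?_⟩
  by_contra hne
  push Not at hne
  let x : k ⊗[A] M := (1 : k) ⊗ₜ[A] m
  let N : Submodule (k ⊗[A] B) (k ⊗[A] M) := Submodule.span _ {x}
  have hdisj : Disjoint (Module.annihilator (k ⊗[A] B) N : Set (k ⊗[A] B))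
      (Submonoid.map ι.toMonoidHom q.primeCompl : Set (k ⊗[A] B)) := by
    rw [Set.disjoint_left]
    rintro _ hann ⟨s, hs, rfl⟩
    have h1 : (1 : k) ⊗ₜ[A] (s • m) = 0 := by
      rw [← hact]
      exact congrArg Subtype.val (Module.mem_annihilator.1 hann ⟨x, Submodule.mem_span_singleton_self x⟩)
    obtain ⟨c, hc, hcm⟩ := SliceMod5.exists_smul_mem_of_tmul_one_eq_zero p h1
    refine hne (algebraMap A B c * s) (fun hh => (Ideal.IsPrime.mem_or_mem inferInstance hh).elim hc hs) ?_
    rw [mul_smul, algebraMap_smul]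
    exact SliceMod5.smul_top_le p hcm
  obtain ⟨Q, hQ, hleQ, hQd⟩ := Ideal.exists_le_prime_disjoint _ _ hdisj
  haveI := hQ
  obtain ⟨P', hP', hP'Q⟩ := Ideal.exists_minimalPrimes_le hleQ
  haveI := hP'.1.1
  have hPass : P' ∈ associatedPrimes (k ⊗[A] B) (k ⊗[A] M) :=
    associatedPrimes.subset_of_injective N.injective_subtype
      (Module.associatedPrimes.minimalPrimes_annihilator_subset_associatedPrimes _ N hP')
  have hPq : P'.comap ι ≤ q := fun b hb => by
    by_contra hbq
    exact Set.disjoint_left.1 hQd (hP'Q hb) ⟨b, hbq, rfl⟩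
  have h2 : ι t * ι a ∈ P' := by
    refine hP'.1.2 (Module.mem_annihilator.2 fun z => ?_)
    obtain ⟨r, hr⟩ := Submodule.mem_span_singleton.1 z.2
    refine Subtype.ext ?_
    show (ι t * ι a) • (z : k ⊗[A] M) = 0
    rw [← hr, smul_comm, ← map_mul, hact, mul_smul, hzero _ htm, smul_zero]
  rcases hP'.1.1.mem_or_mem h2 with h3 | h3
  · exact ht (hPq h3)
  · exact ha (Set.mem_biUnion (Finset.mem_filter.2 ⟨hfin.mem_toFinset.2 hPass, hPq⟩) h3)

/-- Flatness over `A[X]` at `p` makes `X` regular on the fibre at `p`. -/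
theorem isSMulRegular_fibre_of_flat_polynomial [Algebra A[X] B] [IsScalarTower A A[X] B] [Module A[X] M]
    [IsScalarTower A[X] B M] (P : Ideal B) [P.IsPrime]
    (hflat : Module.Flat A[X] (LocalizedModule P.primeCompl M)) :
    IsSMulRegular (EGA4.FibLocMod A B P M) (algebraMap A[X] B X) := by
  let L := LocalizedModule P.primeCompl M
  let p := P.comap (algebraMap A B)
  let I : Ideal A[X] := p.map (algebraMap A A[X])
  haveI := hflat
  haveI : IsScalarTower A A[X] L := IsScalarTower.of_algebraMap_smul fun a x => by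
    rw [← algebraMap_smul B (algebraMap A A[X] a) x, ← IsScalarTower.algebraMap_apply A A[X] B, algebraMap_smul]
  have hmem : ∀ x : L, x ∈ (p.map (algebraMap A (Localization.AtPrime P))) •
      (⊤ : Submodule (Localization.AtPrime P) L) ↔ x ∈ I • (⊤ : Submodule A[X] L) := fun x =>
    (mem_map_smul_top_iff p x).trans (mem_map_smul_top_iff p x).symm
  have h0 : Function.Injective (LinearMap.lsmul A[X] (A[X] ⧸ I) X) := by
    rw [← LinearMap.ker_eq_bot, eq_bot_iff]
    intro z hz
    obtain ⟨f, rfl⟩ := Ideal.Quotient.mk_surjective z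
    change Ideal.Quotient.mk I (X * f) = 0 at hz
    rw [Ideal.Quotient.eq_zero_iff_mem] at hz
    refine (Submodule.mem_bot _).2 (Ideal.Quotient.eq_zero_iff_mem.2 ?_)
    change X * f ∈ p.map (C : A →+* A[X]) at hz
    show f ∈ p.map (C : A →+* A[X])
    rw [Ideal.mem_map_C_iff] at hz ⊢
    intro n
    have := hz (n + 1)
    rwa [coeff_X_mul] at this
  have h1 : IsSMulRegular ((A[X] ⧸ I) ⊗[A[X]] L) (X : A[X]) := by
    intro z w hzw
    refine Module.Flat.rTensor_preserves_injective_linearMap (M := L) _ h0 ?_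
    have key : ∀ v : (A[X] ⧸ I) ⊗[A[X]] L, (LinearMap.lsmul A[X] (A[X] ⧸ I) X).rTensor L v = (X : A[X]) • v :=
      fun v => by
        induction v using TensorProduct.induction_on with
        | zero => simp
        | tmul a b => rfl
        | add a b ha hb => rw [map_add, ha, hb, smul_add]
    rw [key, key]
    exact hzw
  have h2 : IsSMulRegular (L ⧸ I • (⊤ : Submodule A[X] L)) (X : A[X]) :=
    ((TensorProduct.quotTensorEquivQuotSMul L I).isSMulRegular_congr _).1 h1
  intro z w hzw
  rw [← sub_eq_zero]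
  have h0' : algebraMap A[X] B X • (z - w) = 0 := by rw [smul_sub]; exact sub_eq_zero.2 hzw
  obtain ⟨y, hy⟩ := Submodule.Quotient.mk_surjective _ (z - w)
  rw [← hy] at h0' ⊢
  rw [← Submodule.Quotient.mk_smul, Submodule.Quotient.mk_eq_zero, hmem, algebraMap_smul,
    ← Submodule.Quotient.mk_eq_zero, Submodule.Quotient.mk_smul] at h0'
  rw [Submodule.Quotient.mk_eq_zero, hmem, ← Submodule.Quotient.mk_eq_zero]
  exact h2.right_eq_zero_of_smul h0'

/-- Dividing by an element regular on the fibre drops the depth of the fibre by one. -/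
theorem fibDepth_quotSMulTop [Algebra.FiniteType A B] [Module.Finite B M] (P : PrimeSpectrum B) {a : B}
    (ha : a ∈ P.asIdeal) (hreg : IsSMulRegular (EGA4.FibLocMod A B P.asIdeal M) a) :
    fibDepth A P (QuotSMulTop a M) + 1 = fibDepth A P M := by
  haveI := FibDepth5.isLocalRing_fibLocRing (A := A) P.asIdeal
  haveI := isNoetherianRing_fibLocRing (A := A) P.asIdeal
  let Bp := Localization.AtPrime P.asIdeal
  let R := EGA4.FibLocRing A B P.asIdeal
  let L := EGA4.FibLocMod A B P.asIdeal M
  let N := QuotSMulTop a M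
  let L' := EGA4.FibLocMod A B P.asIdeal N
  haveI : Module.Finite R L := Module.Finite.of_restrictScalars_finite Bp _ _
  let ā : R := Ideal.Quotient.mk _ (algebraMap B Bp a)
  have hā : ā ∈ maximalIdeal R := fun hu => by
    haveI : IsLocalHom (Ideal.Quotient.mk
        ((P.asIdeal.comap (algebraMap A B)).map (algebraMap A Bp))) :=
      IsLocalHom.of_surjective _ Ideal.Quotient.mk_surjective
    have h1 : IsUnit (algebraMap B Bp a) :=
      (isUnit_map_iff (Ideal.Quotient.mk
        ((P.asIdeal.comap (algebraMap A B)).map (algebraMap A Bp))) _).1 hu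
    exact (IsLocalization.AtPrime.to_map_mem_maximal_iff Bp P.asIdeal a).2 ha h1
  have hsmul : ∀ z : L, ā • z = algebraMap B Bp a • z := fun _ => rfl
  have hregR : IsSMulRegular L ā := fun z w hzw => hreg (by
    simpa only [hsmul, algebraMap_smul] using hzw)
  have h1 := DepthLib.idealDepth_quotSMulTop_add_one (I := maximalIdeal R) (M := L) hā hregR
  have hsR : Function.Surjective (algebraMap Bp R) := Ideal.Quotient.mk_surjective
  show LocCoh.depth R L' + 1 = LocCoh.depth R L
  refine Eq.trans ?_ h1
  congr 1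
  show LocCoh.depth R L' = LocCoh.depth R (QuotSMulTop ā L)
  rw [← FlatDepth.depth_eq_of_surjective L' hsR, ← FlatDepth.depth_eq_of_surjective (QuotSMulTop ā L) hsR]
  let π := (a • (⊤ : Submodule B M)).mkQ
  let φ := (IsLocalizedModule.map P.asIdeal.primeCompl (LocalizedModule.mkLinearMap P.asIdeal.primeCompl M)
    (LocalizedModule.mkLinearMap P.asIdeal.primeCompl N) π).extendScalarsOfIsLocalization P.asIdeal.primeCompl Bp
  have hφ : Function.Surjective φ :=
    IsLocalizedModule.map_surjective P.asIdeal.primeCompl _ _ π (Submodule.mkQ_surjective _)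
  have hφk : ∀ x, φ x = 0 ↔ x ∈ Ideal.span {algebraMap B Bp a} • (⊤ : Submodule Bp _) := fun x => by
    rw [← Set.image_singleton, ← Ideal.map_span]
    exact SliceMod5.ker_map_mkQ P.asIdeal π (Ideal.span {a})
      (by rw [Submodule.ker_mkQ, Submodule.ideal_span_singleton_smul]) x
  let I : Ideal Bp := (P.asIdeal.comap (algebraMap A B)).map (algebraMap A Bp)
  let ρ : LocalizedModule P.asIdeal.primeCompl M →ₗ[Bp] L' := (Submodule.mkQ _).comp φ
  let σ : LocalizedModule P.asIdeal.primeCompl M →ₗ[Bp] QuotSMulTop ā L :=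
    ((Submodule.mkQ _).restrictScalars Bp).comp (Submodule.mkQ _)
  have hρ : Function.Surjective ρ := (Submodule.mkQ_surjective _).comp hφ
  have hσ : Function.Surjective σ := (Submodule.mkQ_surjective _).comp (Submodule.mkQ_surjective _)
  have hkρ : LinearMap.ker ρ = I • ⊤ ⊔ Ideal.span {algebraMap B Bp a} • ⊤ := by
    rw [LinearMap.ker_comp, Submodule.ker_mkQ,
      show Ideal.span {algebraMap B Bp a} • (⊤ : Submodule Bp _) = LinearMap.ker φ from
        Submodule.ext fun x => (hφk x).symm, ← Submodule.comap_map_eq, Submodule.map_smul'',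
      Submodule.map_top, LinearMap.range_eq_top.2 hφ]
  have hkσ : LinearMap.ker σ = I • ⊤ ⊔ Ideal.span {algebraMap B Bp a} • ⊤ := by
    ext x
    constructor
    · intro hx
      obtain ⟨z, -, hz⟩ := (Submodule.mem_smul_pointwise_iff_exists _ _ _).1
        ((Submodule.Quotient.mk_eq_zero _).1 (LinearMap.mem_ker.1 hx))
      obtain ⟨y, rfl⟩ := Submodule.Quotient.mk_surjective _ z
      rw [hsmul, ← Submodule.Quotient.mk_smul, Submodule.mkQ_apply, Submodule.Quotient.eq] at hz
      refine Submodule.mem_sup.2 ⟨x - algebraMap B Bp a • y, by simpa using neg_mem hz,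
        algebraMap B Bp a • y, Submodule.smul_mem_smul (Ideal.mem_span_singleton_self _) trivial, by abel⟩
    · refine fun hx => LinearMap.mem_ker.2 ((Submodule.Quotient.mk_eq_zero _).2 ?_)
      obtain ⟨u, hu, v, hv, rfl⟩ := Submodule.mem_sup.1 hx
      rw [Submodule.ideal_span_singleton_smul] at hv
      obtain ⟨y, -, rfl⟩ := (Submodule.mem_smul_pointwise_iff_exists _ _ _).1 hv
      refine (Submodule.mem_smul_pointwise_iff_exists _ _ _).2 ⟨Submodule.Quotient.mk y, trivial, ?_⟩
      rw [map_add, Submodule.mkQ_apply, Submodule.mkQ_apply, (Submodule.Quotient.mk_eq_zero _).2 hu, zero_add,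
        Submodule.Quotient.mk_smul, hsmul]
  exact DepthLib.idealDepth_congr (((ρ.quotKerEquivOfSurjective hρ).symm.trans
    (Submodule.quotEquivOfEq _ _ (hkρ.trans hkσ.symm))).trans (σ.quotKerEquivOfSurjective hσ))

/-- The depth of the fibres along `V(J)` is at least `n` near `q` as soon as it is so at the
generizations of `q` in its fibre. -/
theorem exists_notMem_forall_le_fibDepth [Algebra.FinitePresentation A B] (J q : Ideal B) [q.IsPrime]
    (hJq : J ≤ q) :
    ∀ (n : ℕ) (M : Type u) [AddCommGroup M] [Module B M] [Module A M] [IsScalarTower A B M]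
      [Module.FinitePresentation B M], Module.Flat A (LocalizedModule q.primeCompl M) →
      (∀ p : PrimeSpectrum B, J ≤ p.asIdeal → p.asIdeal ≤ q →
        p.asIdeal.comap (algebraMap A B) = q.comap (algebraMap A B) → (n : ℕ∞) ≤ fibDepth A p M) →
      ∃ g ∉ q, ∀ p : PrimeSpectrum B, J ≤ p.asIdeal → g ∉ p.asIdeal → (n : ℕ∞) ≤ fibDepth A p M
  | 0, M, _, _, _, _, _, _, _ =>
      ⟨1, fun h => Ideal.IsPrime.ne_top' ((Ideal.eq_top_iff_one q).2 h), fun p _ _ => by simp⟩
  | n + 1, M, _, _, _, _, _, hflat, h => by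
    obtain ⟨a, haJ, ha⟩ := exists_fibRegMod_mem J q (A := A) (M := M) fun p hp hpq hpp =>
      le_trans (by simp) (h p hp hpq hpp)
    letI : Algebra A[X] B := (Polynomial.aeval a).toRingHom.toAlgebra
    haveI : IsScalarTower A A[X] B :=
      IsScalarTower.of_algebraMap_eq fun c => ((Polynomial.aeval a).commutes c).symm
    letI : Module A[X] M := Module.compHom M (algebraMap A[X] B)
    haveI : IsScalarTower A[X] B M := IsScalarTower.of_algebraMap_smul fun _ _ => rfl
    have hX : algebraMap A[X] B X = a := Polynomial.aeval_X a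
    haveI : Algebra.FinitePresentation A[X] B :=
      Algebra.FinitePresentation.of_restrict_scalars_finitePresentation A A[X] B
    have hflX : Module.Flat A[X] (LocalizedModule q.primeCompl M) :=
      SliceMod5.flat_polynomial q (by rw [hX]; exact hJq haJ) hflat (by rw [hX]; exact ha)
    obtain ⟨_, ⟨f, rfl⟩, hfq, hfU⟩ := PrimeSpectrum.isTopologicalBasis_basic_opens.isOpen_iff.1
      (FlatH4.isOpen_flat_localized (R := A[X]) (S := B) (M := M)) ⟨q, inferInstance⟩ hflX
    have hreg : ∀ p : PrimeSpectrum B, f ∉ p.asIdeal → IsSMulRegular (EGA4.FibLocMod A B p.asIdeal M) a :=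
      fun p hp => by
        rw [← hX]
        exact isSMulRegular_fibre_of_flat_polynomial p.asIdeal (hfU (a := p) hp)
    haveI : Module.FinitePresentation B (QuotSMulTop a M) :=
      Module.finitePresentation_of_surjective (Submodule.mkQ _) (Submodule.mkQ_surjective _)
        (by rw [Submodule.ker_mkQ, ← Submodule.ideal_span_singleton_smul]
            exact Submodule.FG.smul ⟨{a}, by simp⟩ Module.Finite.fg_top)
    obtain ⟨g, hgq, hg⟩ := exists_notMem_forall_le_fibDepth J q hJq n (QuotSMulTop a M)
      (SliceMod5.slice_step q a (hJq haJ) hflat ha (a • (⊤ : Submodule B M)).mkQ (Submodule.mkQ_surjective _)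
        (by rw [Submodule.ker_mkQ, Submodule.ideal_span_singleton_smul])).2
      (fun p hp hpq hpp => by
        have h0 := h p hp hpq hpp
        rw [← fibDepth_quotSMulTop p (hp haJ) (hreg p fun hfp => hfq (hpq hfp)), Nat.cast_succ] at h0
        exact (ENat.add_le_add_iff_right ENat.one_ne_top).1 h0)
    refine ⟨f * g, fun hm => (Ideal.IsPrime.mem_or_mem inferInstance hm).elim hfq hgq, fun p hp hfg => ?_⟩
    rw [← fibDepth_quotSMulTop p (hp haJ) (hreg p fun hh => hfg (Ideal.mul_mem_right _ _ hh)), Nat.cast_succ]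
    exact add_le_add_left (hg p hp fun hh => hfg (Ideal.mul_mem_left _ _ hh)) 1

end Groth.Agent.DepthAlong11
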