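import Groth.Agent.Lib.DepthAlong11.DepthExtend

/-!
# Regular pairs of functions are regular pairs on flat modules
-/

universe u

open CategoryTheory AlgebraicGeometry TopologicalSpace TensorProduct

set_option autoImplicit false
set_option linter.style.haveILetI false
set_option backward.isDefEq.respectTransparency false

namespace Groth.Agent.DepthAlong11

section Ring

variable {R : Type u} [CommRing R] (N : Type u) [AddCommGroup N] [Module R N] [Module.Flat R N]

theorem isSMulRegular_of_flat {a : R} (ha : IsSMulRegular R a) : IsSMulRegular N a := by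
  intro x y h
  have h1 := Module.Flat.rTensor_preserves_injective_linearMap (M := N) (LinearMap.lsmul R R a) ha
  refine (TensorProduct.lid R N).symm.injective (h1 ?_)
  simp only [TensorProduct.lid_symm_apply, LinearMap.rTensor_tmul, LinearMap.lsmul_apply, smul_tmul]
  exact congrArg _ h

theorem exists_eq_smul_of_flat {a b : R} (hab : ∀ x y : R, b * x = a * y → ∃ z, x = a * z)
    (ha : IsSMulRegular R a) (x y : N) (h : b • x = a • y) : ∃ z : N, x = a • z := by
  let φ : R →ₗ[R] R × R := (LinearMap.lsmul R R a).prod (LinearMap.lsmul R R b)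
  let ψ : R × R →ₗ[R] R := LinearMap.coprod (LinearMap.lsmul R R b) (-LinearMap.lsmul R R a)
  have hex : Function.Exact φ ψ := fun p => by
    refine ⟨fun hp => ?_, ?_⟩
    · have hp' : b * p.1 = a * p.2 := by
        simpa [ψ, ← sub_eq_add_neg, sub_eq_zero] using hp
      obtain ⟨z, hz⟩ := hab p.1 p.2 hp'
      refine ⟨z, Prod.ext hz.symm (ha ?_)⟩
      show a * (b * z) = a * p.2
      rw [← hp', hz]; ring
    · rintro ⟨z, rfl⟩
      simp [φ, ψ]; ring
  obtain ⟨w, hw⟩ := (Module.Flat.rTensor_exact (M := N) hex
    ((LinearMap.inl R R R 1) ⊗ₜ[R] x + (LinearMap.inr R R R 1) ⊗ₜ[R] y)).1 (by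
      refine (TensorProduct.lid R N).injective ?_
      simp [ψ, h])
  refine ⟨TensorProduct.lid R N w, ?_⟩
  have h1 := congrArg (fun t => TensorProduct.lid R N ((LinearMap.fst R R R).rTensor N t)) hw
  simp only [map_add, LinearMap.rTensor_tmul] at h1
  simp at h1
  rw [← h1]
  clear h1 hw
  induction w using TensorProduct.induction_on with
  | zero => simp
  | tmul s t => simp [φ, mul_smul]
  | add s t hs ht => simp only [map_add, smul_add, hs, ht]

end Ring

variable {X : Scheme.{u}}

/-- A regular pair of functions near the complement of `W` is one on any flat module. -/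
theorem hasSlicePair_of_flat {W : X.Opens} (h : HasSlicePair (Coh.structureModule X) W) (A : X.Modules)
    (hA : FlatMod.IsFlat A) : HasSlicePair A W := by
  intro z hz
  obtain ⟨V, hV, hzV, a, b, haW, hbW, ha, hb⟩ := h z hz
  refine ⟨V, hV, hzV, a, b, haW, hbW, fun w hw => ?_, fun w hw => ?_⟩
  all_goals
    haveI : Module.Flat (X.presheaf.stalk w) (A.presheaf.stalk w : Type u) := hA w
    have h1 : IsSMulRegular (X.presheaf.stalk w) (X.presheaf.germ V w hw a) :=
      ((RH26.str (X := X) w).isSMulRegular_congr _).2 (ha w hw)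
  · exact isSMulRegular_of_flat _ h1
  · intro x y hxy
    refine exists_eq_smul_of_flat _ (fun x' y' e => ?_) h1 x y hxy
    obtain ⟨z', hz'⟩ := hb w hw (RH26.str (X := X) w x') (RH26.str (X := X) w y') (by
      rw [← map_smul, ← map_smul]
      exact congrArg (RH26.str (X := X) w) e)
    refine ⟨(RH26.str (X := X) w).symm z', (RH26.str (X := X) w).injective ?_⟩
    rw [hz', ← smul_eq_mul, map_smul, LinearEquiv.apply_symm_apply]

end Groth.Agent.DepthAlong11
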