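import Groth.Agent.Lib.Depth.CM
import Mathlib.RingTheory.Ideal.AssociatedPrime.Localization

/-!
# Openness of depth along a closed set
-/

universe u

open RingTheory.Sequence Pointwise IsLocalRing

set_option linter.style.haveILetI false

namespace Groth.Agent.DepthAlong11

variable {A : Type u} [CommRing A] [IsNoetherianRing A]

/-- Depth at least one at an associated prime is impossible. -/
theorem not_one_le_depth_of_mem_associatedPrimes {M : Type u} [AddCommGroup M] [Module A M]
    [Module.Finite A M] (p : Ideal A) [p.IsPrime] (h : p ∈ associatedPrimes A M) :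
    ¬ (1 : ℕ∞) ≤ LocCoh.depth (Localization.AtPrime p) (LocalizedModule p.primeCompl M) := by
  intro h1
  let Ap := Localization.AtPrime p
  let Mp := LocalizedModule p.primeCompl M
  let ι := LocalizedModule.mkLinearMap p.primeCompl M
  obtain ⟨-, m, hm⟩ := isAssociatedPrime_iff.1 h
  have hne : ι m ≠ 0 := by
    intro h0
    obtain ⟨c, hc⟩ := (IsLocalizedModule.eq_zero_iff p.primeCompl ι).1 h0
    exact c.2 (hm.ge (Submodule.mem_colon_singleton.2 hc))
  haveI : Nontrivial Mp := ⟨⟨_, _, hne⟩⟩
  have hne' : maximalIdeal Ap • (⊤ : Submodule Ap Mp) ≠ ⊤ := fun htop =>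
    top_ne_bot (α := Submodule Ap Mp)
      (Submodule.eq_bot_of_le_smul_of_le_jacobson_bot (maximalIdeal Ap) ⊤ Module.Finite.fg_top
        htop.ge (maximalIdeal_le_jacobson _))
  obtain ⟨y, hy, hreg⟩ := DepthLib.exists_isSMulRegular_of_one_le_idealDepth hne' h1
  obtain ⟨a, s, rfl⟩ := IsLocalization.exists_mk'_eq p.primeCompl y
  have ha : a ∈ p := (IsLocalization.AtPrime.mk'_mem_maximal_iff Ap p a s).1 hy
  have h2 : a • m = 0 := by
    have := hm ▸ ha
    rwa [Submodule.mem_colon_singleton, Submodule.mem_bot] at this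
  refine hne (hreg.right_eq_zero_of_smul ?_)
  have h3 : algebraMap A Ap a • ι m = 0 := by rw [algebraMap_smul, ← map_smul, h2, map_zero]
  rw [IsLocalization.mk'_eq_mul_mk'_one, mul_comm, mul_smul, h3, smul_zero]

/-- An element outside all associated primes below `p` is regular on `M_p`. -/
theorem isSMulRegular_localized {M : Type u} [AddCommGroup M] [Module A M] [Module.Finite A M]
    (p : Ideal A) [p.IsPrime] {a : A} (ha : ∀ P ∈ associatedPrimes A M, P ≤ p → a ∉ P) :
    IsSMulRegular (LocalizedModule p.primeCompl M) a := by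
  rw [isSMulRegular_iff_right_eq_zero_of_smul]
  intro z hz
  obtain ⟨⟨m, s⟩, hms⟩ := IsLocalizedModule.surj p.primeCompl (LocalizedModule.mkLinearMap p.primeCompl M) z
  have h1 : LocalizedModule.mkLinearMap p.primeCompl M (a • m) = 0 := by
    rw [map_smul, ← hms]
    show a • ((s : A) • z) = 0
    rw [smul_comm, hz, smul_zero]
  obtain ⟨c, hc⟩ := (IsLocalizedModule.eq_zero_iff p.primeCompl _).1 h1
  by_contra hz0
  let N : Submodule A M := Submodule.span A {m}
  have hN : Module.annihilator A N ≤ p := fun r hr => by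
    by_contra hrp
    have h2 : r • m = 0 := congrArg Subtype.val
      (Module.mem_annihilator.1 hr ⟨m, Submodule.mem_span_singleton_self m⟩)
    have h3 : LocalizedModule.mkLinearMap p.primeCompl M m = 0 :=
      (IsLocalizedModule.eq_zero_iff p.primeCompl _).2 ⟨⟨r, hrp⟩, h2⟩
    rw [← hms] at h3
    exact hz0 ((IsLocalizedModule.smul_injective (LocalizedModule.mkLinearMap p.primeCompl M) s)
      (h3.trans (smul_zero s).symm))
  obtain ⟨P, hP, hPp⟩ := Ideal.exists_minimalPrimes_le hN
  have hPM : P ∈ associatedPrimes A M :=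
    associatedPrimes.subset_of_injective N.injective_subtype
      (Module.associatedPrimes.minimalPrimes_annihilator_subset_associatedPrimes A N hP)
  refine ha P hPM hPp ((hP.1.1.mem_or_mem (hP.1.2 (Module.mem_annihilator.2 fun x => ?_))).resolve_left
    (fun hcP => c.2 (hPp hcP)))
  obtain ⟨r, hr⟩ := Submodule.mem_span_singleton.1 x.2
  refine Subtype.ext ?_
  show ((c : A) * a) • (x : M) = 0
  rw [← hr, smul_comm, mul_smul, show (c : A) • a • m = 0 from hc, smul_zero]

/-- The depth after dividing by a regular element. -/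
theorem depth_localized_quotSMulTop {M : Type u} [AddCommGroup M] [Module A M] [Module.Finite A M]
    (p : Ideal A) [p.IsPrime] {a : A} (hap : a ∈ p) (hreg : IsSMulRegular (LocalizedModule p.primeCompl M) a) :
    LocCoh.depth (Localization.AtPrime p) (LocalizedModule p.primeCompl (QuotSMulTop a M)) + 1 =
      LocCoh.depth (Localization.AtPrime p) (LocalizedModule p.primeCompl M) := by
  let Ap := Localization.AtPrime p
  have h1 := DepthLib.idealDepth_quotSMulTop_add_one (I := maximalIdeal Ap)
    (M := LocalizedModule p.primeCompl M) (x := algebraMap A Ap a)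
    ((IsLocalization.AtPrime.to_map_mem_maximal_iff Ap p a).2 hap)
    (fun u v huv => hreg (by simpa only [algebraMap_smul] using huv))
  refine Eq.trans ?_ h1
  congr 1
  refine DepthLib.idealDepth_congr ?_
  exact ((IsLocalizedModule.isBaseChange p.primeCompl Ap
      (LocalizedModule.mkLinearMap p.primeCompl (QuotSMulTop a M))).equiv.symm.trans
    (QuotSMulTop.algebraMapTensorEquivTensorQuotSMulTop a M Ap).symm).trans
    (QuotSMulTop.congr _ (IsLocalizedModule.isBaseChange p.primeCompl Ap
      (LocalizedModule.mkLinearMap p.primeCompl M)).equiv)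

/-- If the depth is at least `n` at the primes of `V(J)` below `q`, it is on a neighbourhood of `q`. -/
theorem exists_notMem_forall_le_depth (J q : Ideal A) [q.IsPrime] (hJq : J ≤ q) :
    ∀ (n : ℕ) (M : Type u) [AddCommGroup M] [Module A M] [Module.Finite A M],
      (∀ p : PrimeSpectrum A, J ≤ p.asIdeal → p.asIdeal ≤ q →
        (n : ℕ∞) ≤ LocCoh.depth (Localization.AtPrime p.asIdeal) (LocalizedModule p.asIdeal.primeCompl M)) →
      ∃ g ∉ q, ∀ p : PrimeSpectrum A, J ≤ p.asIdeal → g ∉ p.asIdeal →
        (n : ℕ∞) ≤ LocCoh.depth (Localization.AtPrime p.asIdeal) (LocalizedModule p.asIdeal.primeCompl M)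
  | 0, M, _, _, _, _ => ⟨1, fun h => Ideal.IsPrime.ne_top' ((Ideal.eq_top_iff_one q).2 h), fun p _ _ => by simp⟩
  | n + 1, M, _, _, _, h => by
    classical
    have hfin := associatedPrimes.finite A M
    let T : Finset (Ideal A) := hfin.toFinset.filter fun P => P ≤ q
    have hns : ¬ (J : Set A) ⊆ ⋃ P ∈ (T : Set (Ideal A)), (P : Set A) := by
      intro hsub
      simp only [Finset.mem_coe] at hsub
      obtain ⟨P, hP, hle⟩ := (Ideal.subset_union_prime (f := id) (⊥ : Ideal A) ⊥
        (fun P hP _ _ => IsAssociatedPrime.isPrime (hfin.mem_toFinset.1 (Finset.mem_filter.1 hP).1))).1 hsub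
      obtain ⟨hP1, hP2⟩ := Finset.mem_filter.1 hP
      haveI : P.IsPrime := IsAssociatedPrime.isPrime (hfin.mem_toFinset.1 hP1)
      exact not_one_le_depth_of_mem_associatedPrimes P (hfin.mem_toFinset.1 hP1)
        (le_trans (by simp) (h ⟨P, inferInstance⟩ hle hP2))
    obtain ⟨a, haJ, hax⟩ := Set.not_subset.1 hns
    have ha : ∀ P ∈ associatedPrimes A M, P ≤ q → a ∉ P := fun P hP hPq haP =>
      hax (Set.mem_biUnion (Finset.mem_filter.2 ⟨hfin.mem_toFinset.2 hP, hPq⟩) haP)
    have hb : ∀ P : Ideal A, ∃ b ∉ q, ¬ P ≤ q → b ∈ P := fun P => by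
      by_cases hP : P ≤ q
      · exact ⟨1, fun hh => Ideal.IsPrime.ne_top' ((Ideal.eq_top_iff_one q).2 hh), fun hc => absurd hP hc⟩
      · obtain ⟨b, hbP, hbq⟩ := SetLike.not_le_iff_exists.1 hP
        exact ⟨b, hbq, fun _ => hbP⟩
    choose b hbq hbP using hb
    obtain ⟨g', hg'q, hg'⟩ := exists_notMem_forall_le_depth J q hJq n (QuotSMulTop a M) (fun p hp hpq => by
      have h0 := h p hp hpq
      rw [← depth_localized_quotSMulTop p.asIdeal (hp haJ)
        (isSMulRegular_localized p.asIdeal fun P hP hPp => ha P hP (hPp.trans hpq)), Nat.cast_succ] at h0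
      exact (ENat.add_le_add_iff_right ENat.one_ne_top).1 h0)
    refine ⟨g' * ∏ P ∈ hfin.toFinset, b P, fun hm => ?_, fun p hp hgp => ?_⟩
    · rcases Ideal.IsPrime.mem_or_mem inferInstance hm with h1 | h1
      · exact hg'q h1
      · obtain ⟨P, -, hP⟩ := (inferInstance : q.IsPrime).prod_mem_iff.1 h1
        exact hbq P hP
    · have hprod : (∏ P ∈ hfin.toFinset, b P) ∉ p.asIdeal := fun hm => hgp (Ideal.mul_mem_left _ _ hm)
      have hreg : IsSMulRegular (LocalizedModule p.asIdeal.primeCompl M) a := by
        refine isSMulRegular_localized p.asIdeal fun P hP hPp => ha P hP ?_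
        by_contra hPq
        refine hprod ?_
        rw [← Finset.mul_prod_erase _ _ (hfin.mem_toFinset.2 hP)]
        exact Ideal.mul_mem_right _ _ (hPp (hbP P hPq))
      rw [← depth_localized_quotSMulTop p.asIdeal (hp haJ) hreg, Nat.cast_succ]
      exact add_le_add_left (hg' p hp fun hm => hgp (Ideal.mul_mem_right _ _ hm)) 1

end Groth.Agent.DepthAlong11
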